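import Groth.Agent.DecShLib.Mult
import Groth.Agent.TFOneLib.Decomp
import Groth.Agent.TFOneLib.ExtStable

/-!
Bounds on the weight of a weighted filtration for a tensor field.
-/

set_option autoImplicit false
set_option linter.style.haveILetI false
set_option linter.unusedSectionVars false
set_option backward.isDefEq.respectTransparency false
set_option backward.isDefEq.respectTransparency.types false

universe u

open CategoryTheory CategoryTheory.Limits AlgebraicGeometry TopologicalSpace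

noncomputable section

namespace Groth.Agent.DecShLib

variable {k : Type u} [Field k] {X : Scheme.{u}} [X.Over (Spec (CommRingCat.of k))]
  [IsProper (X ↘ Spec (CommRingCat.of k))] [IsReduced X] {L E : X.Modules} (hL : CohB1.IsAmple L)
  (hdim : topologicalKrullDim X ≤ 1) (hp : ∀ x : X, ¬ IsOpen ({x} : Set X))
  (hE : Coh.IsCoh E) (htf : TorSh.IsTorsionFree E)

include hL hdim hp hE htf

/-- A nonzero coherent submodule has multiplicity between one and that of the module. -/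
theorem mult_mem {F : X.Modules} (ι : F ⟶ E) [Mono ι] (hF : Coh.IsCoh F) (h0 : ¬ IsZero F) :
    1 ≤ DecSh.mult k X L F ∧ DecSh.mult k X L F ≤ DecSh.mult k X L E := by
  refine ⟨one_le_mult hL hdim hp hF (TFOneLib.isTorsionFree_of_mono ι htf) h0, ?_⟩
  haveI := CurveRR.isNoetherian_of_proper k X
  have hQ : Coh.IsCoh (cokernel ι) := QC.isCoh_cokernel hF.1 hE ι
  have h := mult_add (k := k) hL (S := ShortComplex.mk ι (cokernel.π ι) (cokernel.condition ι))
    { exact := ShortComplex.exact_cokernel ι } hF hE hQ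
  have := mult_nonneg (k := k) hL hdim hp hQ
  change DecSh.mult k X L E = DecSh.mult k X L F + DecSh.mult k X L (cokernel ι) at h
  omega

variable {D : X.Modules} {a b : ℕ} (T : DecSh.TF E a b D) (𝓕 : DecSh.WFilt E)
  (hcoh : ∀ i, Coh.IsCoh ((𝓕.piece i : Subobject E) : X.Modules))

include hcoh

/-- The contribution of one step to the weight of a multi-index is bounded. -/
theorem abs_term_le (I : Fin a → Fin (𝓕.t + 1)) (i : Fin 𝓕.t) :
    |(a : ℚ) * (DecSh.mult k X L (𝓕.piece i : X.Modules) : ℚ) -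
        (𝓕.nu (DecSh.mult k X L E) (fun P => DecSh.mult k X L (P : X.Modules)) I i : ℚ) *
          (DecSh.mult k X L E : ℚ)| ≤ (a : ℚ) * ((DecSh.mult k X L E : ℚ) - 1) := by
  obtain ⟨h1, h2⟩ := mult_mem (k := k) hL hdim hp hE htf (𝓕.piece i).arrow (hcoh i) (𝓕.piece_nonzero i)
  let αE := DecSh.mult k X L E
  let α : Subobject E → ℤ := fun P => DecSh.mult k X L (P : X.Modules)
  have hν : 𝓕.nu αE α I i ≤ a := (Finset.card_filter_le _ _).trans (by simp)
  rcases h2.eq_or_lt with he | hlt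
  · have hall : 𝓕.nu αE α I i = a := by
      rw [DecSh.WFilt.nu, Finset.filter_true_of_mem, Finset.card_univ, Fintype.card_fin]
      intro j _
      change 𝓕.mulX αE α (I j) ≤ DecSh.mult k X L (𝓕.piece i : X.Modules)
      rw [he]
      induction I j using Fin.lastCases with
      | last => rw [DecSh.WFilt.mulX_last]
      | cast l =>
        rw [DecSh.WFilt.mulX_castSucc]
        exact (mult_mem (k := k) hL hdim hp hE htf (𝓕.piece l).arrow (hcoh l) (𝓕.piece_nonzero l)).2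
    rw [hall, he, sub_self, abs_zero]
    have : (1 : ℚ) ≤ (αE : ℚ) := by exact_mod_cast h1.trans he.le
    exact mul_nonneg (Nat.cast_nonneg _) (sub_nonneg.2 this)
  · have e1 : (1 : ℚ) ≤ (α (𝓕.piece i) : ℚ) := by exact_mod_cast h1
    have e2 : (α (𝓕.piece i) : ℚ) ≤ (αE : ℚ) - 1 := by
      have : α (𝓕.piece i) ≤ αE - 1 := Int.le_sub_one_of_lt hlt
      exact_mod_cast this
    have e3 : (𝓕.nu αE α I i : ℚ) ≤ a := by exact_mod_cast hν
    have e4 : (0 : ℚ) ≤ 𝓕.nu αE α I i := Nat.cast_nonneg _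
    have e5 : (0 : ℚ) ≤ a := Nat.cast_nonneg _
    rw [abs_le]
    constructor <;> nlinarith [mul_le_mul_of_nonneg_left e1 e5, mul_le_mul_of_nonneg_left e2 e5,
      mul_le_mul_of_nonneg_right e3 (show (0 : ℚ) ≤ αE by linarith), mul_nonneg e4 (show (0 : ℚ) ≤ αE by linarith)]

/-- The weight is bounded by the total weight of the filtration. -/
theorem abs_mu_le : |T.mu k L 𝓕| ≤ (∑ i, 𝓕.wt i) * (a : ℚ) * ((DecSh.mult k X L E : ℚ) - 1) := by
  obtain ⟨I, -, hI⟩ := 𝓕.exists_gam_eq_mu (DecSh.mult k X L E) (fun P => DecSh.mult k X L (P : X.Modules)) T.nv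
  rw [DecSh.TF.mu, ← hI, DecSh.WFilt.gam, mul_assoc, Finset.sum_mul]
  refine (Finset.abs_sum_le_sum_abs _ _).trans (Finset.sum_le_sum fun i _ => ?_)
  rw [abs_mul, abs_of_pos (𝓕.wt_pos i)]
  exact mul_le_mul_of_nonneg_left (abs_term_le (k := k) hL hdim hp hE htf 𝓕 hcoh I i) (𝓕.wt_pos i).le

/-- Dropping steps changes the weight by a bounded amount. -/
theorem mu_le_sub (𝓕₁ : DecSh.WFilt E) (e : Fin 𝓕₁.t → Fin 𝓕.t)
    (hpiece : ∀ j, 𝓕₁.piece j = 𝓕.piece (e j)) (hwt : ∀ j, 𝓕₁.wt j = 𝓕.wt (e j)) :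
    T.mu k L 𝓕 ≤ T.mu k L 𝓕₁ +
      ((∑ i, 𝓕.wt i) - ∑ j, 𝓕₁.wt j) * (a : ℚ) * ((DecSh.mult k X L E : ℚ) - 1) := by
  classical
  let αE := DecSh.mult k X L E
  let α : Subobject E → ℤ := fun P => DecSh.mult k X L (P : X.Modules)
  obtain ⟨I₁, hA₁, hI₁⟩ := 𝓕₁.exists_gam_eq_mu αE α T.nv
  have he : Function.Injective e := fun x y h => 𝓕₁.piece_strictMono.injective (by rw [hpiece, hpiece, h])
  let e' : Fin (𝓕₁.t + 1) → Fin (𝓕.t + 1) := Fin.lastCases (Fin.last _) fun j => (e j).castSucc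
  have hpX : ∀ j, 𝓕.pieceX (e' j) = 𝓕₁.pieceX j := fun j => by
    induction j using Fin.lastCases with
    | last => simp [e']
    | cast l => simp [e', hpiece]
  have hmX : ∀ j, 𝓕.mulX αE α (e' j) = 𝓕₁.mulX αE α j := fun j => by
    induction j using Fin.lastCases with
    | last => simp [e']
    | cast l => simp [e', hpiece]
  let I : Fin a → Fin (𝓕.t + 1) := fun l => e' (I₁ l)
  have hA : 𝓕.Adm T.nv I := by
    change T.nv.nz fun j => 𝓕.pieceX (e' (I₁ j))
    simp only [hpX]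
    exact hA₁
  have hnu : ∀ j, 𝓕.nu αE α I (e j) = 𝓕₁.nu αE α I₁ j := fun j => by
    simp only [DecSh.WFilt.nu, I, hmX, hpiece]
  refine (𝓕.mu_le_gam αE α T.nv hA).trans ?_
  rw [DecSh.TF.mu, ← hI₁, DecSh.WFilt.gam, DecSh.WFilt.gam]
  let g : Fin 𝓕.t → ℚ := fun i => (a : ℚ) * (α (𝓕.piece i) : ℚ) - (𝓕.nu αE α I i : ℚ) * (αE : ℚ)
  let B := Finset.univ.map ⟨e, he⟩
  have hs1 : ∑ i ∈ B, 𝓕.wt i * g i = ∑ j, 𝓕₁.wt j * ((a : ℚ) * (α (𝓕₁.piece j) : ℚ) -
      (𝓕₁.nu αE α I₁ j : ℚ) * (αE : ℚ)) := by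
    rw [Finset.sum_map]
    exact Finset.sum_congr rfl fun j _ => by simp [g, hwt, hpiece, hnu]
  have hs2 : ∑ i ∈ B, 𝓕.wt i = ∑ j, 𝓕₁.wt j := by
    rw [Finset.sum_map]
    exact Finset.sum_congr rfl fun j _ => (hwt j).symm
  have hrest : ∑ i ∈ Finset.univ \ B, 𝓕.wt i * g i ≤
      ∑ i ∈ Finset.univ \ B, 𝓕.wt i * ((a : ℚ) * ((αE : ℚ) - 1)) :=
    Finset.sum_le_sum fun i _ => mul_le_mul_of_nonneg_left
      (le_of_abs_le (abs_term_le (k := k) hL hdim hp hE htf 𝓕 hcoh I i)) (𝓕.wt_pos i).le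
  rw [← Finset.sum_mul, Finset.sum_sdiff_eq_sub (f := 𝓕.wt) (Finset.subset_univ B), hs2] at hrest
  rw [← hs1, ← Finset.sum_sdiff (Finset.subset_univ B)]
  change _ + _ ≤ _ + _
  linarith

omit hcoh

/-- Semistability bounds the slope of a submodule. -/
theorem linear_le {δ : ℚ} (hδ : 0 < δ) {dE : ℚ} {d : Subobject E → ℚ}
    (h : DecSh.IsDeltaSS (fun P => Coh.IsCoh (P : X.Modules)) (DecSh.mult k X L E)
      (fun P => DecSh.mult k X L (P : X.Modules)) dE d T.nv δ)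
    {F : X.Modules} (ι : F ⟶ E) [Mono ι] (hF : Coh.IsCoh F) (hF0 : ¬ IsZero F) (hι : ¬ IsIso ι) :
    (DecSh.mult k X L E : ℚ) * d (Subobject.mk ι) - (DecSh.mult k X L F : ℚ) * dE ≤
      δ * (a : ℚ) * ((DecSh.mult k X L E : ℚ) - (DecSh.mult k X L F : ℚ)) := by
  let P := Subobject.mk ι
  let e : (P : X.Modules) ≅ F := Subobject.underlyingIso ι
  have hP : P ≠ ⊤ := fun hh => hι ((Subobject.isIso_iff_mk_eq_top ι).2 hh)
  have hP0 : ¬ IsZero (P : X.Modules) := fun hz => hF0 (hz.of_iso e.symm)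
  let 𝓢 := DecSh.WFilt.single P hP hP0
  have hPc : Coh.IsCoh (P : X.Modules) := K0Coh.isCoh_of_iso e.symm hF
  have h0 := h 𝓢 (fun _ => hPc)
  have hα : DecSh.mult k X L (P : X.Modules) = DecSh.mult k X L F := mult_iso hL e
  obtain ⟨I, -, hI⟩ := 𝓢.exists_gam_eq_mu (DecSh.mult k X L E) (fun P => DecSh.mult k X L (P : X.Modules)) T.nv
  rw [← hI, DecSh.WFilt.msum, DecSh.WFilt.gam] at h0
  have hνa : ∀ i, (𝓢.nu (DecSh.mult k X L E) (fun P => DecSh.mult k X L (P : X.Modules)) I i : ℚ) ≤ a := fun i => by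
    have : 𝓢.nu (DecSh.mult k X L E) (fun P => DecSh.mult k X L (P : X.Modules)) I i ≤ a :=
      (Finset.card_filter_le _ _).trans (by simp)
    exact_mod_cast this
  have hνa := hνa ⟨0, Nat.one_pos⟩
  simp only [𝓢, DecSh.WFilt.single, Finset.univ_unique, Fin.default_eq_zero, Finset.sum_singleton, one_mul, hα,
    Fin.zero_eta] at h0 hνa
  have hE1 : (0 : ℚ) ≤ (DecSh.mult k X L E : ℚ) := by exact_mod_cast mult_nonneg hL hdim hp hE
  nlinarith [mul_le_mul_of_nonneg_left (mul_le_mul_of_nonneg_right hνa hE1) hδ.le]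

end Groth.Agent.DecShLib

namespace Groth.Agent.DecShLib

variable {k : Type u} [Field k] {X : Scheme.{u}} [X.Over (Spec (CommRingCat.of k))]
  [IsProper (X ↘ Spec (CommRingCat.of k))] [IsReduced X] {L E : X.Modules}

/-- The parabolic semistability bounds the slope of a submodule. -/
theorem slope_le_par (hL : CohB1.IsAmple L) (hdim : topologicalKrullDim X ≤ 1) (hp : ∀ x : X, ¬ IsOpen ({x} : Set X))
    (hE : Coh.IsCoh E) (htf : TorSh.IsTorsionFree E) {ν r : ℕ} (hr : 0 < r) (I : Fin ν → X.IdealSheafData)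
    (K : ∀ i, Submodule k (ParSh.fibD X (I i) E))
    (hK : ∀ i, Module.finrank k (ParSh.fibD X (I i) E ⧸ K i) = r) (κ : Fin ν → ℚ) (hκ : ∀ i, 0 < κ i ∧ κ i < 1)
    {D : X.Modules} {a b : ℕ} (T : DecSh.TF E a b D) {δ : ℚ} (hδ : 0 < δ) (hT : T.IsParSemistable k I K κ L δ)
    {F : X.Modules} (ι : F ⟶ E) [Mono ι] (hF : Coh.IsCoh F) (hF0 : ¬ IsZero F) (hι : ¬ IsIso ι) :
    (Curv2.euler k X F : ℚ) / (DecSh.mult k X L F : ℚ) ≤
      (Curv2.euler k X E : ℚ) / (DecSh.mult k X L E : ℚ) + ((a : ℚ) * δ + (r : ℚ) * (ν : ℚ)) := by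
  have h := linear_le (k := k) hL hdim hp hE htf T hδ hT ι hF hF0 hι
  obtain ⟨h1, h2⟩ := mult_mem (k := k) hL hdim hp hE htf ι hF hF0
  have hbound : ∀ {G : X.Modules} (j : G ⟶ E),
      0 ≤ ∑ i, κ i * (Module.finrank k ((LinearMap.range (ParSh.fibDMap k X (I i) j)).map (K i).mkQ) : ℚ) ∧
        ∑ i, κ i * (Module.finrank k ((LinearMap.range (ParSh.fibDMap k X (I i) j)).map (K i).mkQ) : ℚ) ≤
          (r : ℚ) * (ν : ℚ) := fun {G} j => by
    refine ⟨Finset.sum_nonneg fun i _ => mul_nonneg (hκ i).1.le (Nat.cast_nonneg _), ?_⟩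
    refine (Finset.sum_le_card_nsmul _ _ (r : ℚ) fun i _ => ?_).trans (le_of_eq (by simp [mul_comm]))
    haveI : Module.Finite k (ParSh.fibD X (I i) E ⧸ K i) := Module.finite_of_finrank_pos (by rw [hK i]; exact hr)
    have hle : Module.finrank k ((LinearMap.range (ParSh.fibDMap k X (I i) j)).map (K i).mkQ) ≤ r :=
      (Submodule.finrank_le _).trans (hK i).le
    calc κ i * (Module.finrank k ((LinearMap.range (ParSh.fibDMap k X (I i) j)).map (K i).mkQ) : ℚ)
        ≤ 1 * (r : ℚ) := mul_le_mul (hκ i).2.le (by exact_mod_cast hle) (Nat.cast_nonneg _) zero_le_one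
      _ = r := one_mul _
  simp only [DecSh.parChi] at h
  rw [CurveRR.euler_eq_of_iso (Subobject.underlyingIso ι)] at h
  obtain ⟨-, hF'⟩ := hbound (Subobject.mk ι).arrow
  obtain ⟨hE', -⟩ := hbound (𝟙 E)
  have q1 : (1 : ℚ) ≤ (DecSh.mult k X L F : ℚ) := by exact_mod_cast h1
  have q2 : (DecSh.mult k X L F : ℚ) ≤ (DecSh.mult k X L E : ℚ) := by exact_mod_cast h2
  generalize (DecSh.mult k X L F : ℚ) = x at h q1 q2 ⊢
  generalize (DecSh.mult k X L E : ℚ) = y at h q2 ⊢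
  generalize hSF : ∑ i, κ i * (Module.finrank k ((LinearMap.range (ParSh.fibDMap k X (I i) (Subobject.mk ι).arrow)).map
    (K i).mkQ) : ℚ) = u at h hF'
  generalize ∑ i, κ i * (Module.finrank k ((LinearMap.range (ParSh.fibDMap k X (I i) (𝟙 E))).map (K i).mkQ) : ℚ) = v
    at h hE'
  have hy : 0 < y := by linarith
  have hx : 0 < x := by linarith
  rw [div_le_iff₀ hx, add_mul, div_mul_eq_mul_div, ← sub_le_iff_le_add, le_div_iff₀ hy]
  have p1 : y * u ≤ y * ((r : ℚ) * ν) := mul_le_mul_of_nonneg_left hF' hy.le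
  have p2 : 0 ≤ x * v := mul_nonneg hx.le hE'
  have ha : (0 : ℚ) ≤ (a : ℚ) := Nat.cast_nonneg _
  have p3 : δ * (a : ℚ) * (y - x) ≤ δ * (a : ℚ) * y := mul_le_mul_of_nonneg_left (by linarith) (mul_nonneg hδ.le ha)
  have p4 : δ * (a : ℚ) * y * 1 ≤ δ * (a : ℚ) * y * x :=
    mul_le_mul_of_nonneg_left q1 (mul_nonneg (mul_nonneg hδ.le ha) hy.le)
  have p5 : y * ((r : ℚ) * ν) * 1 ≤ y * ((r : ℚ) * ν) * x :=
    mul_le_mul_of_nonneg_left q1 (mul_nonneg hy.le (mul_nonneg (Nat.cast_nonneg _) (Nat.cast_nonneg _)))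
  nlinarith

end Groth.Agent.DecShLib
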