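import Groth.Agent.CurveRR.Multi2
import Groth.Agent.TFOneLib.Simple
import Groth.Agent.SerrePn.Twists
import Groth.Prelude.Def_DecSh2

/-!
The multiplicity of a coherent module on a projective curve: additive, nonnegative, positive on nonzero torsion-free
modules.
-/

set_option autoImplicit false
set_option linter.style.haveILetI false
set_option linter.unusedSectionVars false
set_option backward.isDefEq.respectTransparency false
set_option backward.isDefEq.respectTransparency.types false

universe u

open CategoryTheory CategoryTheory.Limits AlgebraicGeometry TopologicalSpace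
open Groth.Agent.CurveRR.Multi (D lenAt compSum degOn)

noncomputable section

namespace Groth.Agent.DecShLib

theorem pure_of_not_isOpen {X : Scheme.{u}} [NoetherianSpace X] (hdim : topologicalKrullDim X ≤ 1)
    (h : ∀ x : X, ¬ IsOpen ({x} : Set X)) :
    ∀ C ∈ irreducibleComponents (X : Type u), topologicalKrullDim C = 1 := by
  intro C hC
  by_contra hne
  have h0 : topologicalKrullDim C ≤ 0 := by
    have h1 := (topologicalKrullDim_subspace_le X C).trans hdim
    generalize topologicalKrullDim C = d at h1 hne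
    match d with
    | ⊥ => exact bot_le
    | (a : ℕ∞) =>
      have h1 : a ≤ 1 := WithBot.coe_le_coe.mp h1
      refine WithBot.coe_le_coe.mpr (le_of_not_gt fun ha => hne ?_)
      rw [le_antisymm h1 (Order.one_le_iff_pos.mpr ha)]
      rfl
  have hCc := isClosed_of_mem_irreducibleComponents C hC
  haveI : DiscreteTopology C := discreteTopology_iff_isOpen_singleton.mpr fun w =>
    Groth.Agent.TopDim.isOpen_singleton_of_dim_le_zero h0 w
  obtain ⟨η, hη⟩ := QuasiSober.sober hC.1 hCc
  have hηc : IsClosed ({η} : Set X) := by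
    have := hCc.isClosedEmbedding_subtypeVal.isClosedMap _ (isClosed_singleton (x := (⟨η, hη.mem⟩ : C)))
    simpa using this
  have hCη : C = {η} := hη.def.symm.trans hηc.closure_eq
  let others := {D | D ∈ irreducibleComponents (X : Type u) ∧ D ≠ C}
  have hcl : IsClosed (⋃₀ others) := by
    rw [Set.sUnion_eq_biUnion]
    exact (NoetherianSpace.finite_irreducibleComponents.subset fun D hD => hD.1).isClosed_biUnion
      fun D hD => isClosed_of_mem_irreducibleComponents D hD.1
  refine h η ?_
  have : ({η} : Set X) = (⋃₀ others)ᶜ := by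
    refine Set.Subset.antisymm ?_ fun x hx => ?_
    · rintro x rfl ⟨D, ⟨hD, hDC⟩, hxD⟩
      exact hDC (Set.Subset.antisymm (hC.2 hD.1 (hCη ▸ Set.singleton_subset_iff.2 hxD))
        (hCη ▸ Set.singleton_subset_iff.2 hxD))
    · by_contra hne'
      refine hx ⟨irreducibleComponent x, ⟨irreducibleComponent_mem_irreducibleComponents x, fun e => hne' ?_⟩,
        mem_irreducibleComponent⟩
      rw [← hCη, ← e]
      exact mem_irreducibleComponent
  rw [this]
  exact hcl.isOpen_compl

variable {k : Type u} [Field k] {X : Scheme.{u}} [X.Over (Spec (CommRingCat.of k))]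
  [IsProper (X ↘ Spec (CommRingCat.of k))] [IsReduced X] {L : X.Modules} (hL : CohB1.IsAmple L)

theorem degOn_pos (hdim : topologicalKrullDim X ≤ 1)
    (hp : ∀ C ∈ irreducibleComponents (X : Type u), topologicalKrullDim C = 1) (hL : CohB1.IsAmple L)
    (Z : irreducibleComponents (X : Type u)) :
    0 < degOn k (Scheme.IdealSheafData.vanishingIdeal (Devissage.Zc Z.2.1.genericPoint)) 1 L := by
  haveI := CurveRR.isNoetherian_of_proper k X
  have h := (CurveRR.Multi.isAmple_iff (k := k) hdim hL.1).1 hL Z.1 Z.2 (hp _ Z.2)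
  have e : (X.irreducibleComponentIdeal Z.1 Z.2).radical =
      Scheme.IdealSheafData.vanishingIdeal (Devissage.Zc Z.2.1.genericPoint) := by
    rw [← Scheme.IdealSheafData.vanishingIdeal_support]
    exact congrArg _ (Closeds.ext (Z.2.1.isGenericPoint_genericPoint
      (isClosed_of_mem_irreducibleComponents _ Z.2)).def.symm)
  rwa [e] at h

include hL

theorem mult_eq (hdim : topologicalKrullDim X ≤ 1) [Fintype (irreducibleComponents (X : Type u))]
    {F : X.Modules} (hF : Coh.IsCoh F) : DecSh.mult k X L F = compSum k 1 L F := by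
  have h := CurveRR.Multi.D_eq_compSum k 1 L hdim (CurveRR.isFinLocFreeOfRank_one hL.1) F hF
  rw [← h, DecSh.mult, D]
  simp

theorem mult_add {S : ShortComplex X.Modules} (hS : S.ShortExact)
    (h₁ : Coh.IsCoh S.X₁) (h₂ : Coh.IsCoh S.X₂) (h₃ : Coh.IsCoh S.X₃) :
    DecSh.mult k X L S.X₂ = DecSh.mult k X L S.X₁ + DecSh.mult k X L S.X₃ := by
  have h := CurveRR.Multi.D_add k 1 L (CurveRR.isFinLocFreeOfRank_one hL.1) hS h₁ h₂ h₃
  simpa [DecSh.mult, D] using h

theorem mult_iso {F G : X.Modules} (e : F ≅ G) : DecSh.mult k X L F = DecSh.mult k X L G := by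
  rw [DecSh.mult, DecSh.mult, CurveRR.euler_eq_of_iso e, CurveRR.euler_eq_of_iso (SerrePn.tmapIso e L)]

variable (hdim : topologicalKrullDim X ≤ 1) (hp : ∀ x : X, ¬ IsOpen ({x} : Set X))

include hdim hp

theorem mult_nonneg {F : X.Modules} (hF : Coh.IsCoh F) : 0 ≤ DecSh.mult k X L F := by
  haveI := CurveRR.isNoetherian_of_proper k X
  haveI := (NoetherianSpace.finite_irreducibleComponents (α := X)).fintype
  have hpc := pure_of_not_isOpen hdim hp
  rw [mult_eq hL hdim hF, compSum]
  refine Finset.sum_nonneg fun Z _ => ?_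
  rw [if_pos (hpc Z.1 Z.2)]
  exact mul_nonneg (Int.natCast_nonneg _) (degOn_pos hdim hpc hL Z).le

theorem one_le_mult {F : X.Modules} (hF : Coh.IsCoh F) (htf : TorSh.IsTorsionFree F) (h0 : ¬ IsZero F) :
    1 ≤ DecSh.mult k X L F := by
  haveI := CurveRR.isNoetherian_of_proper k X
  haveI := (NoetherianSpace.finite_irreducibleComponents (α := X)).fintype
  have hpc := pure_of_not_isOpen hdim hp
  obtain ⟨η, hη, hηs⟩ : ∃ η ∈ genericPoints X, η ∈ CohB1.support F := by
    by_contra h
    push Not at h
    refine h0 (KFlat.isZero_of_stalks F fun x => @ModuleCat.isZero_of_subsingleton _ _ _ ?_)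
    refine TFOneLib.subsingleton_of_notMem fun hx => ?_
    rw [TFOneLib.support_eq hF htf] at hx
    obtain ⟨_, ⟨-, η, hη, rfl, hηs⟩, -⟩ := hx
    exact h η hη hηs
  let Z₀ : irreducibleComponents (X : Type u) := ⟨closure {η}, hη⟩
  have hZη : Z₀.2.1.genericPoint = η :=
    (Z₀.2.1.isGenericPoint_genericPoint isClosed_closure).eq isGenericPoint_closure
  haveI : _root_.IsArtinianRing (X.presheaf.stalk η) :=
    RatFunLib.isArtinianRing_stalk fun y hy => TFOneLib.eq_of_specializes hη hy
  haveI := RegDual.finite_stalk hF η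
  have hlen : 1 ≤ lenAt F η := by
    have h1 : Module.length (X.presheaf.stalk η) (F.presheaf.stalk η) ≠ 0 :=
      fun h => hηs (Module.length_eq_zero_iff.1 h)
    have h2 : (Module.length (X.presheaf.stalk η) (F.presheaf.stalk η)).toNat ≠ 0 := fun h =>
      (ENat.toNat_eq_zero.1 h).elim h1 Module.length_ne_top
    rw [lenAt]
    omega
  rw [mult_eq hL hdim hF, compSum]
  refine le_trans ?_ (Finset.single_le_sum (f := fun Z : irreducibleComponents (X : Type u) =>
    if topologicalKrullDim (Z.1 : Set X) = 1 then lenAt F Z.2.1.genericPoint *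
      degOn k (Scheme.IdealSheafData.vanishingIdeal (Devissage.Zc Z.2.1.genericPoint)) 1 L else 0)
    (fun Z _ => ?_) (Finset.mem_univ Z₀))
  · rw [if_pos (hpc Z₀.1 Z₀.2), hZη]
    have := degOn_pos (k := k) hdim hpc hL Z₀
    rw [hZη] at this
    exact one_le_mul_of_one_le_of_one_le hlen this
  · rw [if_pos (hpc Z.1 Z.2)]
    exact mul_nonneg (Int.natCast_nonneg _) (degOn_pos hdim hpc hL Z).le

end Groth.Agent.DecShLib
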