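/-
Boundedness of sheaves on curves from a bound on the slopes of subsheaves.
-/
import Groth.Agent.BddSlope.Ext
import Groth.Agent.DecShLib.Mult
import Groth.Agent.AmpleEmb.Closed
import Groth.Agent.PicBdd.Universal
import Groth.Agent.W7Hull.InvDual
import Groth.Agent.TMul.AmpleBasis
import Groth.Prelude.Def_DecSh2

set_option autoImplicit false
set_option linter.unusedSectionVars false
set_option linter.style.haveILetI false
set_option backward.isDefEq.respectTransparency false
set_option backward.isDefEq.respectTransparency.types false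
set_option maxHeartbeats 1000000

universe u

open CategoryTheory CategoryTheory.Limits AlgebraicGeometry
open Groth.Agent
open Groth.Agent.MumBound (tw)
open scoped Polynomial

noncomputable section

namespace Groth.Agent.DecShLib

section linear

variable {k : Type u} [Field k] {X : Scheme.{u}} [X.Over (Spec (CommRingCat.of k))]
  [IsProper (X ↘ Spec (CommRingCat.of k))] {L : X.Modules} (hL : CohB1.IsAmple L)
  (hdim : topologicalKrullDim X ≤ 1)

include hL hdim

/-- On a curve the Hilbert polynomial is determined by the Euler characteristic and the multiplicity. -/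
theorem hp_eq {G : X.Modules} (hG : Coh.IsCoh G) :
    StabLib.Sh.hp k L G = Polynomial.C (Curv2.euler k X G : ℚ) +
      Polynomial.C (DecSh.mult k X L G : ℚ) * Polynomial.X := by
  have hP := StabLib.Sh.isHilbPoly_hp k hL.1 hG
  have hd : (StabLib.Sh.hp k L G).natDegree ≤ 1 :=
    StabLib.Sh.natDegree_hp_le k hL.1 hG
      ((topologicalKrullDim_subspace_le X _).trans (by exact_mod_cast hdim))
  have h0 := hP 0
  have h1 := hP 1
  rw [show Curv2.euler k X (ShStab.twist X L G 0) = Curv2.euler k X G from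
    CurveRR.euler_eq_of_iso (SecTwist.unitorR G)] at h0
  obtain ⟨e₁⟩ := TMul.nonempty_powOneIso L
  rw [show Curv2.euler k X (ShStab.twist X L G 1) = Curv2.euler k X (CohB1.tensorMod G L) from
    CurveRR.euler_eq_of_iso (PicGrp.tensorModIso (Iso.refl G) e₁)] at h1
  rw [Polynomial.eval_eq_sum_range' (n := 2) (by omega), Finset.sum_range_succ, Finset.sum_range_one] at h0 h1
  push_cast at h0 h1
  simp only [pow_zero, pow_one, mul_one, mul_zero, add_zero] at h0 h1
  refine Polynomial.ext fun i => ?_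
  rw [Polynomial.coeff_add, Polynomial.coeff_C_mul_X, Polynomial.coeff_C]
  rcases (show i = 0 ∨ i = 1 ∨ 2 ≤ i by omega) with rfl | rfl | hi
  · simp [h0]
  · simp [DecSh.mult, h0, h1]
  · rw [Polynomial.coeff_eq_zero_of_natDegree_lt (by omega), if_neg (by omega), if_neg (by omega), add_zero]

/-- Euler characteristics of twists on a curve. -/
theorem euler_linear {G : X.Modules} (hG : Coh.IsCoh G) (m : ℕ) :
    (Curv2.euler k X (ShStab.twist X L G m) : ℚ) =
      (Curv2.euler k X G : ℚ) + (DecSh.mult k X L G : ℚ) * (m : ℚ) := by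
  rw [StabLib.Sh.isHilbPoly_hp k hL.1 hG m, hp_eq hL hdim hG]
  simp

/-- Twisting does not change the multiplicity. -/
theorem mult_twist {G : X.Modules} (hG : Coh.IsCoh G) (i : ℕ) :
    DecSh.mult k X L (ShStab.twist X L G i) = DecSh.mult k X L G := by
  have e : CohB1.tensorMod (ShStab.twist X L G i) L ≅ ShStab.twist X L G (i + 1) := TMul.assocIso G _ L
  have h1 := euler_linear (k := k) hL hdim hG i
  have h2 := euler_linear (k := k) hL hdim hG (i + 1)
  push_cast at h2
  have h : (DecSh.mult k X L (ShStab.twist X L G i) : ℚ) = (DecSh.mult k X L G : ℚ) := by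
    rw [DecSh.mult, CurveRR.euler_eq_of_iso e]
    push_cast
    rw [h1, h2]
    ring
  exact_mod_cast h

/-- The multiplicity is nonnegative. -/
theorem mult_nonneg' {G : X.Modules} (hG : Coh.IsCoh G) : 0 ≤ DecSh.mult k X L G := by
  have hd : (StabLib.Sh.hp k L G).natDegree ≤ 1 :=
    StabLib.Sh.natDegree_hp_le k hL.1 hG
      ((topologicalKrullDim_subspace_le X _).trans (by exact_mod_cast hdim))
  have h := StabLib.coeff_nonneg_of_nn ((StabLib.Sh.inv k hL).nn_hp hG) hd
  change 0 ≤ (StabLib.Sh.hp k L G).coeff 1 at h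
  rw [hp_eq hL hdim hG] at h
  rw [Polynomial.coeff_add, Polynomial.coeff_C_mul_X, Polynomial.coeff_C, if_neg one_ne_zero, if_pos rfl, zero_add] at h
  exact_mod_cast h

end linear

variable (k : Type u) [Field k] [Infinite k] (X : Scheme.{u}) [X.Over (Spec (CommRingCat.of k))]
  [IsProper (X ↘ Spec (CommRingCat.of k))] (L : X.Modules)

/-- The subsheaves of `F` have slopes at most `B`. -/
def SlopeLE (F : X.Modules) (B : ℚ) : Prop :=
  ∀ (G : X.Modules) (j : G ⟶ F), Mono j → Coh.IsCoh G → ¬ IsZero G →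
    (Curv2.euler k X G : ℚ) ≤ B * (DecSh.mult k X L G : ℚ)

variable {k X L} (hL : CohB1.IsAmple L) (hdim : topologicalKrullDim X ≤ 1)

include hL hdim

theorem SlopeLE.all {F : X.Modules} {B : ℚ} (h : SlopeLE k X L F B) (G : X.Modules) (j : G ⟶ F) [Mono j]
    (hG : Coh.IsCoh G) : (Curv2.euler k X G : ℚ) ≤ B * (DecSh.mult k X L G : ℚ) := by
  by_cases h0 : IsZero G
  · have hz := (StabLib.Sh.inv k hL).hp_zero h0 hG
    change StabLib.Sh.hp k L G = 0 at hz
    rw [hp_eq hL hdim hG] at hz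
    have e0 := congrArg (Polynomial.coeff · 0) hz
    have e1 := congrArg (Polynomial.coeff · 1) hz
    simp only [Polynomial.coeff_add, Polynomial.coeff_C_mul_X, Polynomial.coeff_C, Polynomial.coeff_zero,
      one_ne_zero, zero_ne_one, if_true, if_false, add_zero, zero_add] at e0 e1
    rw [e0, e1]
    simp
  · exact h G j inferInstance hG h0

/-- The push forward of a twist to projective space: polynomial and slopes of subsheaves. -/
theorem push_data {n d : ℕ} (hd : 0 < d) (r : X ⟶ CohB1.ProjSpace n k) [IsClosedImmersion r]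
    (hr : r ≫ CohB1.ProjSpace.toSpec n k = X ↘ Spec (CommRingCat.of k))
    (eL : (Scheme.Modules.pullback r).obj (Twist.twistProjSpace n k 1) ≅ CohB1.tensorPow L d)
    (i : ℕ) {F : X.Modules} (hF : Coh.IsCoh F) {B : ℚ} (hsub : SlopeLE k X L F B) :
    Coh.IsCoh ((Scheme.Modules.pushforward r).obj (ShStab.twist X L F i)) ∧
    (∀ t : ℤ, (Curv2.euler k (CohB1.ProjSpace n k)
        (tw ((Scheme.Modules.pushforward r).obj (ShStab.twist X L F i)) t) : ℚ) =
          ((Curv2.euler k X F : ℚ) + (DecSh.mult k X L F : ℚ) * (i : ℚ)) +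
            ((DecSh.mult k X L F : ℚ) * (d : ℚ)) * (t : ℚ)) ∧
    ∀ (G : (CohB1.ProjSpace n k).Modules)
      (ι : G ⟶ (Scheme.Modules.pushforward r).obj (ShStab.twist X L F i)) (ψ : ℚ[X]), Mono ι → Coh.IsCoh G →
      (∀ t : ℤ, (Curv2.euler k (CohB1.ProjSpace n k) (tw G t) : ℚ) = ψ.eval (t : ℚ)) →
      ψ.natDegree ≤ 1 → ψ.coeff 0 ≤ (B + i) / (d : ℚ) * ψ.coeff 1 := by
  haveI := CurveRR.isNoetherian_of_proper k X
  let Pk := CohB1.ProjSpace n k
  have hΛ : CohB1.IsAmple (PnReg.Ot k n 1) := Castel.isAmple_twist n k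
  have hrL := TMul.isAmple_pullback_of_isAffineHom r hΛ
  have hinv := TMul.isInvertible_tensorPow hL.1 i
  have hFi : Coh.IsCoh (ShStab.twist X L F i) := CohFinite.isCoh_tensor hF hinv
  -- Hilbert polynomials with respect to the embedding
  have hhp : ∀ {G : X.Modules}, Coh.IsCoh G →
      StabLib.Sh.hp k (PnReg.Ot k n 1) ((Scheme.Modules.pushforward r).obj G) =
        Polynomial.C (Curv2.euler k X G : ℚ) +
          Polynomial.C ((DecSh.mult k X L G : ℚ) * (d : ℚ)) * Polynomial.X := fun {G} hG => by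
    rw [(TFCurvStab.hp_push k r hr hΛ hG).2, BddSlope.hp_congr k hrL.1 (TMul.isInvertible_tensorPow hL.1 d) eL hG]
    refine StabLib.Sh.hilb_unique (StabLib.Sh.isHilbPoly_hp k (TMul.isInvertible_tensorPow hL.1 d) hG) fun m => ?_
    obtain ⟨f⟩ := TMul.nonempty_powMulIso L d m
    rw [show Curv2.euler k X (ShStab.twist X (CohB1.tensorPow L d) G m) =
      Curv2.euler k X (ShStab.twist X L G (d * m)) from CurveRR.euler_eq_of_iso (PicGrp.tensorModIso (Iso.refl G) f),
      euler_linear hL hdim hG]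
    push_cast
    simp
    ring
  have hei : (Curv2.euler k X (ShStab.twist X L F i) : ℚ) = (Curv2.euler k X F : ℚ) + (DecSh.mult k X L F : ℚ) * (i : ℚ) := by
    rw [euler_linear hL hdim hF]
  have hM := (TFCurvStab.hp_push k r hr hΛ hFi).1
  have heul : ∀ t : ℤ, (Curv2.euler k Pk (tw ((Scheme.Modules.pushforward r).obj (ShStab.twist X L F i)) t) : ℚ) =
      ((Curv2.euler k X F : ℚ) + (DecSh.mult k X L F : ℚ) * (i : ℚ)) +
        ((DecSh.mult k X L F : ℚ) * (d : ℚ)) * (t : ℚ) := fun t => by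
    rw [BddSlope.euler_tw_eq_hp k hM t, hhp hFi, hei, mult_twist hL hdim hF i]
    simp
  refine ⟨hM, heul, fun G ι ψ hι hG hψ hψd => ?_⟩
  haveI := hι
  haveI : IsLocallyNoetherian (CohB1.ProjSpace n k) :=
    (CohFinite.isNoetherian_projSpace n k).toIsLocallyNoetherian
  obtain ⟨K, j, hj, hK, ⟨eK⟩⟩ := BddSlope.exists_sub_of_closed r hFi hG ι
  haveI := hj
  have hψK : ψ = Polynomial.C (Curv2.euler k X K : ℚ) +
      Polynomial.C ((DecSh.mult k X L K : ℚ) * (d : ℚ)) * Polynomial.X := by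
    rw [← BddSlope.hp_eq_of_tw k hG ψ hψ, ← hhp hK]
    exact (StabLib.Sh.inv k hΛ).hp_iso eK hG
  -- untwist
  obtain ⟨N, hN, ⟨η⟩⟩ := W7Hull.exists_tensor_inverse hinv
  let u : ShStab.twist X L (CohB1.tensorMod K N) i ≅ K :=
    TMul.assocIso K N _ ≪≫ PicGrp.tensorModIso (Iso.refl K) (TMul.commIso _ _ ≪≫ η) ≪≫ SecTwist.unitorR K
  let v : CohB1.tensorMod (ShStab.twist X L F i) N ≅ F :=
    TMul.assocIso F _ N ≪≫ PicGrp.tensorModIso (Iso.refl F) η ≪≫ SecTwist.unitorR F
  have hK' : Coh.IsCoh (CohB1.tensorMod K N) := CohFinite.isCoh_tensor hK hN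
  haveI : Mono (CohFinite.tmap j N) :=
    (CohFinite.shortExact_tmap hN (S := ShortComplex.mk j (cokernel.π j) (cokernel.condition j))
      { exact := ShortComplex.exact_cokernel j }).mono_f
  haveI : Mono (CohFinite.tmap j N ≫ v.hom) := mono_comp _ _
  have h := hsub.all hL hdim (CohB1.tensorMod K N) (CohFinite.tmap j N ≫ v.hom) hK'
  have hm' : DecSh.mult k X L K = DecSh.mult k X L (CohB1.tensorMod K N) := by
    rw [← mult_twist hL hdim hK' i, DecSh.mult, DecSh.mult, CurveRR.euler_eq_of_iso u,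
      CurveRR.euler_eq_of_iso (PicGrp.tensorModIso u (Iso.refl L))]
  have hχ : (Curv2.euler k X K : ℚ) = (Curv2.euler k X (CohB1.tensorMod K N) : ℚ) +
      (DecSh.mult k X L K : ℚ) * (i : ℚ) := by
    rw [hm', ← euler_linear hL hdim hK' i, CurveRR.euler_eq_of_iso u]
  rw [← hm'] at h
  have hdq : (0 : ℚ) < (d : ℚ) := by exact_mod_cast hd
  rw [hψK]
  simp only [Polynomial.coeff_add, Polynomial.coeff_C_mul_X, Polynomial.coeff_C]
  simp
  rw [hχ, div_mul_eq_mul_div, le_div_iff₀ hdq]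
  nlinarith

/-- Uniform regularity of twisted families with bounded slopes. -/
theorem exists_reg {n d : ℕ} (hd : 0 < d) (r : X ⟶ CohB1.ProjSpace n k) [IsClosedImmersion r]
    (hr : r ≫ CohB1.ProjSpace.toSpec n k = X ↘ Spec (CommRingCat.of k))
    (eL : (Scheme.Modules.pullback r).obj (Twist.twistProjSpace n k 1) ≅ CohB1.tensorPow L d)
    (α e : ℤ) (B : ℚ) (i : ℕ) :
    ∃ m : ℕ, ∀ F : X.Modules, Coh.IsCoh F → DecSh.mult k X L F = α → Curv2.euler k X F = e →
      SlopeLE k X L F B →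
      PnReg.Reg ((Scheme.Modules.pushforward r).obj (ShStab.twist X L F i)) (m : ℤ) ∧
      ∀ t : ℤ, (Curv2.euler k (CohB1.ProjSpace n k)
        (tw ((Scheme.Modules.pushforward r).obj (ShStab.twist X L F i)) t) : ℚ) =
          ((e : ℚ) + (α : ℚ) * (i : ℚ)) + ((α : ℚ) * (d : ℚ)) * (t : ℚ) := by
  obtain ⟨m, hm⟩ := BddSlope.exists_reg_bound.{u} (α.toNat * d) ((e : ℚ) + (α : ℚ) * (i : ℚ))
    ((B + i) / (d : ℚ))
  refine ⟨m, fun F hF hα he hsub => ?_⟩
  have hα0 : 0 ≤ α := hα ▸ mult_nonneg' hL hdim hF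
  obtain ⟨hM, heul, hb⟩ := push_data hL hdim hd r hr eL i hF hsub
  rw [hα, he] at heul
  refine ⟨hm k n _ hM (fun t => ?_) hb, heul⟩
  rw [heul t]
  push_cast
  rw [show ((α.toNat : ℕ) : ℚ) = (α : ℚ) by exact_mod_cast Int.toNat_of_nonneg hα0]

/-- Sheaves with fixed invariants and bounded slopes form a bounded family. -/
theorem isBounded_slope (α e : ℤ) (B : ℚ) :
    Pic13.IsBounded k X (fun F : X.Modules => Coh.IsCoh F ∧ DecSh.mult k X L F = α ∧
      Curv2.euler k X F = e ∧ SlopeLE k X L F B) := by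
  haveI := CurveRR.isNoetherian_of_proper k X
  obtain ⟨n, d, r, hd, hr, hrc, ⟨eL⟩⟩ := AmpleEmb.exists_closedImmersion_projSpace (X ↘ Spec (CommRingCat.of k)) hL
  haveI := hrc
  obtain ⟨m, hm⟩ := exists_reg hL hdim hd r hr eL α e B 0
  obtain ⟨T, q, hq, hqc, U, hU, hfam⟩ := PicBdd.isBounded_regular k r hr (m : ℤ)
    (Polynomial.C (e : ℚ) + Polynomial.C ((α : ℚ) * (d : ℚ)) * Polynomial.X)
  refine ⟨T, q, hq, hqc, U, hU, fun F ⟨hF, hα, he, hB⟩ => hfam F ?_⟩
  obtain ⟨hreg, heul⟩ := hm F hF hα he hB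
  haveI := hF.1
  let c : ShStab.twist X L F 0 ≅ F := SecTwist.unitorR F
  have hc := (Scheme.Modules.pushforward r).mapIso c
  have hreg' : PnReg.Reg ((Scheme.Modules.pushforward r).obj F) (m : ℤ) := PnReg.reg_of_iso hc hreg
  refine ⟨hF, fun q hq => ?_, fun t => ?_⟩
  · obtain ⟨f⟩ := SerrePn.nonempty_hh_pushTwist k r hr F (CohFinite.isInvertible_twist n k ((m : ℤ) - q)) q
    exact f.toEquiv.subsingleton_congr.2 (hreg' q hq)
  · have h := heul t
    rw [CurveRR.euler_eq_of_iso (PicGrp.tensorModIso hc (Iso.refl _))] at h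
    have hMc : Coh.IsCoh ((Scheme.Modules.pushforward r).obj F) := QC.isCoh_pushforward_of_isFinite r hF.2
    rw [CurveRR.euler_eq_sum _ (n + 1) fun q hq => PnReg.hh_above _ (MumBound.isCoh_tw hMc t).1 q hq] at h
    simp only [Polynomial.eval_add, Polynomial.eval_C, Polynomial.eval_mul, Polynomial.eval_X]
    simp only [Nat.cast_zero, mul_zero, add_zero] at h
    rw [← h, FGA.eulerCharLE]
    push_cast
    refine Finset.sum_congr rfl fun q _ => ?_
    obtain ⟨f⟩ := SerrePn.nonempty_hh_pushTwist k r hr F (CohFinite.isInvertible_twist n k t) q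
    rw [show Module.finrank k (Coh.HH X (Pic13.twistOn k r F t) q) =
      CurveRR.h k (tw ((Scheme.Modules.pushforward r).obj F) t) q from f.finrank_eq]

/-- Large twists of sheaves with fixed invariants and bounded slopes are acyclic and generated. -/
theorem exists_vanish (α e : ℤ) (B : ℚ) :
    ∃ N₀ : ℕ, ∀ N : ℕ, N₀ ≤ N → ∀ F : X.Modules, Coh.IsCoh F → DecSh.mult k X L F = α →
      Curv2.euler k X F = e → SlopeLE k X L F B →
      (∀ q : ℕ, 1 ≤ q → Subsingleton (Coh.HH X (ShStab.twist X L F N) q)) ∧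
        Curv2.IsGloballyGenerated (ShStab.twist X L F N) := by
  haveI := CurveRR.isNoetherian_of_proper k X
  obtain ⟨n, d, r, hd, hr, hrc, ⟨eL⟩⟩ := AmpleEmb.exists_closedImmersion_projSpace (X ↘ Spec (CommRingCat.of k)) hL
  haveI := hrc
  choose m hm using fun i : ℕ => exists_reg hL hdim hd r hr eL α e B i
  let M := (Finset.range d).sup m
  refine ⟨d * (M + 1), fun N hN F hF hα he hB => ?_⟩
  let i := N % d
  let j := N / d
  have hij : i + d * j = N := Nat.mod_add_div N d
  have hiM : m i ≤ M := Finset.le_sup (Finset.mem_range.2 (Nat.mod_lt N hd))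
  have hMj : M + 1 ≤ j := by
    refine (Nat.le_div_iff_mul_le hd).2 ?_
    rw [mul_comm]
    exact hN
  obtain ⟨hreg, -⟩ := hm i F hF hα he hB
  have hFi : Coh.IsCoh (ShStab.twist X L F i) := CohFinite.isCoh_tensor hF (TMul.isInvertible_tensorPow hL.1 i)
  haveI := hFi.1
  let Fi := (Scheme.Modules.pushforward r).obj (ShStab.twist X L F i)
  have hMc : Coh.IsCoh Fi := QC.isCoh_pushforward_of_isFinite r hFi.2
  obtain ⟨p₁⟩ := TMul.nonempty_powMulIso L d j
  obtain ⟨p₂⟩ := TMul.nonempty_powAddIso L i (d * j)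
  obtain ⟨p₃⟩ := TMul.nonempty_pullPowIso r (Twist.twistProjSpace n k 1) j
  obtain ⟨p₄⟩ := GrT.nonempty_iso_tensorPow (𝒜 := CohB1.polyGrading n k) (CohFinite.cov_one n k) j
  obtain ⟨p₅⟩ := TMul.nonempty_powCongr eL j
  let a₁ : (Scheme.Modules.pullback r).obj (Twist.twistProjSpace n k (j : ℤ)) ≅ CohB1.tensorPow L (d * j) :=
    (Scheme.Modules.pullback r).mapIso p₄ ≪≫ p₃.symm ≪≫ p₅ ≪≫ p₁
  let a₂ : CohB1.tensorMod (ShStab.twist X L F i) ((Scheme.Modules.pullback r).obj (Twist.twistProjSpace n k (j : ℤ))) ≅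
      ShStab.twist X L F N :=
    PicGrp.tensorModIso (Iso.refl _) a₁ ≪≫ TMul.assocIso F _ _ ≪≫
      PicGrp.tensorModIso (Iso.refl F) (p₂ ≪≫ eqToIso (by rw [hij]))
  refine ⟨fun q hq => ?_, ?_⟩
  · obtain ⟨f⟩ := SerrePn.nonempty_hh_pushTwist k r hr (ShStab.twist X L F i)
      (CohFinite.isInvertible_twist n k (j : ℤ)) q
    refine CohQC.hh_subsingleton_of_iso a₂ q (f.toEquiv.subsingleton_congr.2 ?_)
    exact MumBound.hh_reg hMc.1 hreg (j : ℤ) q hq (by omega)
  · have hreg' : Curv2.IsMRegular k n Fi (m i : ℤ) := fun q hq _ => hreg q hq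
    have hj : Curv2.IsMRegular k n Fi (j : ℤ) := SerrePn.regular_of_le Fi hMc _ hreg' _ (by omega)
    obtain ⟨g⟩ := SerrePn.nonempty_pushTwist r (ShStab.twist X L F i) (CohFinite.isInvertible_twist n k (j : ℤ))
    have hgg := SerrePn.isGloballyGenerated_twist Fi hMc _ hj
    obtain ⟨ι, p, hp⟩ := hgg
    have h2 : Curv2.IsGloballyGenerated ((Scheme.Modules.pushforward r).obj (ShStab.twist X L F N)) :=
      haveI := hp
      ⟨ι, p ≫ (g ≪≫ (Scheme.Modules.pushforward r).mapIso a₂).hom, inferInstance⟩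
    exact SerrePn.isGloballyGenerated_of_push r _ h2

end Groth.Agent.DecShLib

end
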