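/-
Slope bounds from the quotient sectional condition.
-/
import Groth.Agent.DecShLib.Regular
import Groth.Agent.DecShLib.Bound
import Groth.Agent.PicBdd.Union
import Groth.Agent.Nakai.GrowthGeneral

set_option autoImplicit false
set_option linter.unusedSectionVars false
set_option linter.style.haveILetI false
set_option backward.isDefEq.respectTransparency false
set_option backward.isDefEq.respectTransparency.types false
set_option maxHeartbeats 800000

universe u

open CategoryTheory CategoryTheory.Limits AlgebraicGeometry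
open Groth.Agent Groth.Agent.MumBound
open scoped Polynomial

noncomputable section

namespace Groth.Agent.BddSlope

variable {k : Type u} [Field k] [Infinite k] {n : ℕ}

local notation "PS" => CohB1.ProjSpace n k

/-- Global sections are bounded by the invariants of the subsheaf they generate. -/
theorem h0_gen_bound {E : (CohB1.ProjSpace n k).Modules} (hE : Coh.IsCoh E) (A : ℕ) (e b : ℚ)
    (hP : ∀ t : ℤ, (Curv2.euler k PS (tw E t) : ℚ) = e + (A : ℚ) * (t : ℚ))
    (hsub : ∀ (G : (CohB1.ProjSpace n k).Modules) (ι : G ⟶ E) (ψ : ℚ[X]), Mono ι → Coh.IsCoh G →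
      (∀ t : ℤ, (Curv2.euler k PS (tw G t) : ℚ) = ψ.eval (t : ℚ)) →
      ψ.natDegree ≤ 1 → ψ.coeff 0 ≤ b * ψ.coeff 1) :
    ∃ (a : ℕ) (q : ℚ), a ≤ A ∧ q ≤ b * (a : ℚ) ∧ (a = A → q ≤ e) ∧
      (CurveRR.h k E 0 : ℚ) ≤ q + (a : ℚ) * ((a : ℚ) + 1) := by
  haveI := CohFinite.isNoetherian_projSpace n k
  let P : ℚ[X] := Polynomial.C (A : ℚ) * Polynomial.X + Polynomial.C e
  have hP' : ∀ t : ℤ, (Curv2.euler k PS (tw E t) : ℚ) = P.eval (t : ℚ) := fun t => by
    rw [hP]; simp [P]; ring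
  have hPd : P.natDegree ≤ 1 := Polynomial.natDegree_linear_le
  obtain ⟨r, F, φ, j, hF, hφ, hj, hh⟩ := exists_generated_sub hE
  haveI := hφ
  haveI := hj
  obtain ⟨Q, hQ'⟩ := exists_poly_nat hF
  have hQ := euler_eq_eval hF Q hQ'
  have hC : Coh.IsCoh (cokernel j) := Groth.Agent.QC.isCoh_cokernel hF.1 hE j
  have hnn : StabLib.Nn (P - Q) := by
    refine SlopeLB.nn_of_euler hC _ fun t => ?_
    have hS : (ShortComplex.mk j (cokernel.π j) (cokernel.condition j)).ShortExact :=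
      { exact := ShortComplex.exact_cokernel j }
    have h := CurveRR.euler_add (k := k) (twSeq hS t) (isCoh_tw hF _) (isCoh_tw hE _) (isCoh_tw hC _)
    change Curv2.euler k _ (tw E t) = Curv2.euler k _ (tw F t) + Curv2.euler k _ (tw (cokernel j) t) at h
    have h' := congrArg (fun z : ℤ => (z : ℚ)) h
    push_cast at h'
    rw [Polynomial.eval_sub, ← hP', ← hQ]
    linarith
  have hQd : Q.natDegree ≤ 1 := by
    have h := StabLib.natDegree_le_of_nn (SlopeLB.nn_of_euler hF Q hQ) hnn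
    rw [add_sub_cancel] at h
    omega
  obtain ⟨a, ha, hreg⟩ := reg_one φ hF Q hQ hQd
  have haA : (a : ℚ) ≤ (A : ℚ) := by
    have h := StabLib.coeff_nonneg_of_nn hnn (n := 1) ((Polynomial.natDegree_sub_le _ _).trans (max_le hPd hQd))
    rw [Polynomial.coeff_sub, show P.coeff 1 = (A : ℚ) by simp [P], ha] at h
    linarith
  have hg := hsub F j Q hj hF hQ hQd
  rw [ha] at hg
  have hv : ∀ q, 1 ≤ q → Subsingleton (Coh.HH PS (tw F ((a + 1 : ℕ) : ℤ)) q) :=
    fun q hq => hh_reg hF.1 hreg _ q hq (by push_cast; omega)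
  have h2 := hQ ((a + 1 : ℕ) : ℤ)
  rw [CurveRR.euler_eq_sum _ 1 hv, Polynomial.eval_eq_sum_range' (n := 2) (by omega),
    Finset.sum_range_succ, Finset.sum_range_succ, Finset.sum_range_zero, Finset.sum_range_one, ha] at h2
  have h3 : (CurveRR.h k E 0 : ℚ) ≤ (CurveRR.h k (tw F ((a + 1 : ℕ) : ℤ)) 0 : ℚ) := by
    exact_mod_cast hh.trans (h0_twist_le hF (a + 1))
  push_cast at h2 h3
  simp only [pow_zero, pow_one, mul_one, one_mul, zero_add] at h2
  refine ⟨a, Q.coeff 0, by exact_mod_cast haA, hg, fun haeq => ?_, by linarith⟩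
  have hd0 : (P - Q).natDegree ≤ 0 := by
    refine Polynomial.natDegree_le_iff_coeff_eq_zero.2 fun i hi => ?_
    rcases (show i = 1 ∨ 2 ≤ i by omega) with rfl | hi2
    · rw [Polynomial.coeff_sub, ha, show P.coeff 1 = (A : ℚ) by simp [P], haeq, sub_self]
    · exact Polynomial.coeff_eq_zero_of_natDegree_lt
        (lt_of_le_of_lt ((Polynomial.natDegree_sub_le _ _).trans (max_le hPd hQd)) (by omega))
  have h := StabLib.coeff_nonneg_of_nn hnn (n := 0) hd0
  rw [Polynomial.coeff_sub, show P.coeff 0 = e by simp [P]] at h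
  linarith

/-- Global sections of a sheaf with one-dimensional support and bounded slopes of subsheaves. -/
theorem h0_le_of_slope {E : (CohB1.ProjSpace n k).Modules} (hE : Coh.IsCoh E) (A : ℕ) (e b : ℚ)
    (hP : ∀ t : ℤ, (Curv2.euler k PS (tw E t) : ℚ) = e + (A : ℚ) * (t : ℚ))
    (hsub : ∀ (G : (CohB1.ProjSpace n k).Modules) (ι : G ⟶ E) (ψ : ℚ[X]), Mono ι → Coh.IsCoh G →
      (∀ t : ℤ, (Curv2.euler k PS (tw G t) : ℚ) = ψ.eval (t : ℚ)) →
      ψ.natDegree ≤ 1 → ψ.coeff 0 ≤ b * ψ.coeff 1) :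
    (CurveRR.h k E 0 : ℚ) ≤ (A : ℚ) * max 0 (b + (A : ℚ) + 1) := by
  haveI := CohFinite.isNoetherian_projSpace n k
  obtain ⟨a, q, haA, hq, -, hh⟩ := h0_gen_bound hE A e b hP hsub
  have haA' : (a : ℚ) ≤ (A : ℚ) := by exact_mod_cast haA
  have h4 : (a : ℚ) * (b + (a : ℚ) + 1) ≤ (a : ℚ) * max 0 (b + (A : ℚ) + 1) :=
    mul_le_mul_of_nonneg_left (le_max_of_le_right (by linarith)) (Nat.cast_nonneg a)
  have h5 : (a : ℚ) * max 0 (b + (A : ℚ) + 1) ≤ (A : ℚ) * max 0 (b + (A : ℚ) + 1) :=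
    mul_le_mul_of_nonneg_right haA' (le_max_left _ _)
  linarith

end Groth.Agent.BddSlope

namespace Groth.Agent.DecShLib

variable {k : Type u} [Field k] [Infinite k] {X : Scheme.{u}} [X.Over (Spec (CommRingCat.of k))]
  [IsProper (X ↘ Spec (CommRingCat.of k))] {L : X.Modules} (hL : CohB1.IsAmple L)
  (hdim : topologicalKrullDim X ≤ 1)

include hL hdim

/-- Global sections of twists of sheaves with bounded slopes. -/
theorem exists_h0_bound (α : ℤ) :
    ∃ C : ℚ, ∀ (Q : X.Modules) (B : ℚ) (m : ℕ), Coh.IsCoh Q → DecSh.mult k X L Q ≤ α → SlopeLE k X L Q B →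
      (Module.finrank k (Coh.HH X (ShStab.twist X L Q m) 0) : ℚ) ≤
        (DecSh.mult k X L Q : ℚ) * max 0 (B + (m : ℚ) + C) := by
  haveI := CurveRR.isNoetherian_of_proper k X
  obtain ⟨n, d, r, hd, hr, hrc, ⟨eL⟩⟩ := AmpleEmb.exists_closedImmersion_projSpace (X ↘ Spec (CommRingCat.of k)) hL
  haveI := hrc
  refine ⟨(d : ℚ) * ((α : ℚ) * (d : ℚ) + 1), fun Q B m hQ hα hB => ?_⟩
  obtain ⟨hM, heul, hb⟩ := push_data hL hdim hd r hr eL m hQ hB
  let A := (DecSh.mult k X L Q).toNat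
  have hA : (A : ℚ) = (DecSh.mult k X L Q : ℚ) := by
    exact_mod_cast Int.toNat_of_nonneg (mult_nonneg' hL hdim hQ)
  have h := BddSlope.h0_le_of_slope hM (A * d) _ ((B + m) / (d : ℚ))
    (fun t => by rw [heul t]; push_cast; rw [hA]) hb
  have he : CurveRR.h k ((Scheme.Modules.pushforward r).obj (ShStab.twist X L Q m)) 0 =
      Module.finrank k (Coh.HH X (ShStab.twist X L Q m) 0) := Nakai.h0_pushforward k r hr _
  rw [he] at h
  refine h.trans ?_
  push_cast
  rw [hA, mul_assoc]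
  refine mul_le_mul_of_nonneg_left ?_ (hA ▸ Nat.cast_nonneg A)
  rw [mul_max_of_nonneg _ _ (Nat.cast_nonneg d), mul_zero]
  refine max_le_max le_rfl ?_
  rw [mul_add, mul_add, mul_div_cancel₀ _ (show (d : ℚ) ≠ 0 by exact_mod_cast hd.ne')]
  have hαq : (DecSh.mult k X L Q : ℚ) ≤ (α : ℚ) := by exact_mod_cast hα
  have := mul_le_mul_of_nonneg_left (mul_le_mul_of_nonneg_right hαq (Nat.cast_nonneg d)) (Nat.cast_nonneg (α := ℚ) d)
  nlinarith

omit hdim in
/-- Invariants along a quotient. -/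
theorem add_of_epi [IsReduced X] {G Q : X.Modules} (q : G ⟶ Q) [Epi q] (hG : Coh.IsCoh G) (hQ : Coh.IsCoh Q) :
    Coh.IsCoh (kernel q) ∧
      DecSh.mult k X L G = DecSh.mult k X L (kernel q) + DecSh.mult k X L Q ∧
      Curv2.euler k X G = Curv2.euler k X (kernel q) + Curv2.euler k X Q := by
  haveI := CurveRR.isNoetherian_of_proper k X
  have hS : (ShortComplex.mk (kernel.ι q) q (kernel.condition q)).ShortExact :=
    { exact := ShortComplex.exact_of_f_is_kernel _ (kernelIsKernel q) }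
  have hK : Coh.IsCoh (kernel q) := Groth.Agent.QC.isCoh_kernel hG hQ.1 q
  have h1 := mult_add (k := k) hL (S := ShortComplex.mk (kernel.ι q) q (kernel.condition q)) hS hK hG hQ
  have h2 := CurveRR.euler_add (k := k) (S := ShortComplex.mk (kernel.ι q) q (kernel.condition q)) hS hK hG hQ
  exact ⟨hK, h1, h2⟩

variable [IsReduced X] (hp : ∀ x : X, ¬ IsOpen ({x} : Set X))

include hp

/-- The quotient sectional condition in a large degree bounds the slopes of subsheaves. -/
theorem exists_slope_of_sectional (δ : ℚ) (hδ : 0 < δ) (α e : ℤ) (a : ℕ) :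
    ∃ (N₁ : ℕ) (B : ℚ), ∀ (F : X.Modules), Coh.IsCoh F → TorSh.IsTorsionFree F →
      DecSh.mult k X L F = α → Curv2.euler k X F = e →
      ∀ (b : ℕ) (D : X.Modules) (T : DecSh.TF F a b D) (m : ℕ), N₁ ≤ m →
      (∀ 𝓕 : DecSh.WFilt F, (∀ i, Coh.IsCoh ((𝓕.piece i : Subobject F) : X.Modules)) →
        (∑ i, 𝓕.wt i * ((DecSh.mult k X L (cokernel (𝓕.piece i).arrow) : ℚ) *
            (Curv2.euler k X (ShStab.twist X L F m) : ℚ) -
          (α : ℚ) * (Module.finrank k (Coh.HH X (ShStab.twist X L (cokernel (𝓕.piece i).arrow) m) 0) : ℚ))) +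
          δ * T.mu k L 𝓕 ≤ 0) →
      SlopeLE k X L F B := by
  haveI := CurveRR.isNoetherian_of_proper k X
  obtain ⟨C, hC⟩ := exists_h0_bound (k := k) hL hdim α
  let ν₀ : ℚ := min ((e : ℚ) / (α : ℚ)) ((e : ℚ) / (α : ℚ) - δ * (a : ℚ) - C - 1)
  obtain ⟨N₁, hN₁⟩ : ∃ N₁ : ℕ, δ * (a : ℚ) - (e : ℚ) / (α : ℚ) < (N₁ : ℚ) := exists_nat_gt _
  refine ⟨N₁, |(e : ℚ)| + |ν₀| * |(α : ℚ)|, fun F hF htf hα he b D T m hm hcond => ?_⟩
  have hSa : ∀ (G Q : X.Modules) (q : G ⟶ Q), Epi q → Coh.IsCoh G → Coh.IsCoh Q →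
      Coh.IsCoh (kernel q) ∧
      DecSh.mult k X L G = DecSh.mult k X L (kernel q) + DecSh.mult k X L Q ∧
      Curv2.euler k X G = Curv2.euler k X (kernel q) + Curv2.euler k X Q := by
    intro G Q q hq hG hQ
    haveI := hq
    exact add_of_epi (k := k) hL q hG hQ
  have heu0 : ∀ {Q : X.Modules}, Coh.IsCoh Q → DecSh.mult k X L Q = 0 → (0 : ℤ) ≤ Curv2.euler k X Q :=
    fun {Q} hQ h => by
      have h1 : StabLib.Nn (StabLib.Sh.hp k L Q) := (StabLib.Sh.inv k hL).nn_hp hQ
      rw [hp_eq hL hdim hQ, h] at h1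
      simp only [StabLib.Nn, Int.cast_zero, map_zero, zero_mul, add_zero, Polynomial.leadingCoeff_C] at h1
      exact_mod_cast h1
  -- the slopes of quotients are at least `ν₀`
  have hquot : ∀ (c : ℕ) (Q : X.Modules) (q : F ⟶ Q), Epi q → Coh.IsCoh Q → DecSh.mult k X L Q = c →
      ν₀ * (c : ℚ) ≤ (Curv2.euler k X Q : ℚ) := by
    intro c
    induction c using Nat.strong_induction_on with
    | _ c ih =>
    intro Q₀ q₀ hq₀ hQ₀ hc₀
    rcases Nat.eq_zero_or_pos c with rfl | hcpos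
    · have := heu0 hQ₀ (by simpa using hc₀)
      rw [Nat.cast_zero, mul_zero]
      exact_mod_cast this
    -- quotients of a given multiplicity have bounded below Euler characteristic
    let S : Set ℤ := {z | ∃ (Q : X.Modules) (q : F ⟶ Q), Epi q ∧ Coh.IsCoh Q ∧
      DecSh.mult k X L Q = c ∧ Curv2.euler k X Q = z}
    have hbdd : ∀ z ∈ S, e - (CurveRR.h k F 0 : ℤ) ≤ z := by
      rintro z ⟨Q, q, hq, hQ, -, rfl⟩
      haveI := hq
      obtain ⟨hK, -, h2⟩ := hSa F Q q hq hF hQ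
      have h3 : (Curv2.euler k X (kernel q) : ℤ) ≤ (CurveRR.h k F 0 : ℤ) := by
        have h4 : CurveRR.h k (kernel q) 0 ≤ CurveRR.h k F 0 := CBSurf.h0_le_of_mono (kernel.ι q) hF
        rw [CurveRR.euler_eq (k := k) hdim (kernel q)]
        omega
      omega
    obtain ⟨z, ⟨Q, q, hq, hQ, hc, hz⟩, hmin⟩ :=
      Int.exists_least_of_bdd (P := fun z => z ∈ S) ⟨_, hbdd⟩ ⟨_, Q₀, q₀, hq₀, hQ₀, hc₀, rfl⟩
    haveI := hq
    refine le_trans ?_ (show ((z : ℤ) : ℚ) ≤ (Curv2.euler k X Q₀ : ℚ) by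
      exact_mod_cast hmin _ ⟨Q₀, q₀, hq₀, hQ₀, hc₀, rfl⟩)
    rw [← hz]
    by_contra hlt
    push Not at hlt
    -- such a minimal quotient has small slopes of subsheaves
    have hsub : SlopeLE k X L Q ν₀ := fun G j hj hG _ => by
      haveI := hj
      have hQG : Coh.IsCoh (cokernel j) := Groth.Agent.QC.isCoh_cokernel hG.1 hQ j
      have hS : (ShortComplex.mk j (cokernel.π j) (cokernel.condition j)).ShortExact :=
        { exact := ShortComplex.exact_cokernel j }
      have h1 : DecSh.mult k X L Q = DecSh.mult k X L G + DecSh.mult k X L (cokernel j) :=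
        mult_add (k := k) hL (S := ShortComplex.mk j (cokernel.π j) (cokernel.condition j)) hS hG hQ hQG
      have h2 : Curv2.euler k X Q = Curv2.euler k X G + Curv2.euler k X (cokernel j) :=
        CurveRR.euler_add (k := k) (S := ShortComplex.mk j (cokernel.π j) (cokernel.condition j)) hS hG hQ hQG
      have g0 := mult_nonneg' (k := k) hL hdim hG
      have g1 := mult_nonneg' (k := k) hL hdim hQG
      haveI : Epi (q ≫ cokernel.π j) := epi_comp _ _
      have h2' : (Curv2.euler k X Q : ℚ) = Curv2.euler k X G + Curv2.euler k X (cokernel j) := by exact_mod_cast h2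
      rcases eq_or_lt_of_le g0 with hG0 | hG0
      · -- zero-dimensional subsheaves
        have hle := hmin _ ⟨cokernel j, q ≫ cokernel.π j, inferInstance, hQG, by omega, rfl⟩
        rw [← hG0, Int.cast_zero, mul_zero]
        have : Curv2.euler k X G ≤ 0 := by omega
        exact_mod_cast this
      · obtain ⟨c', hc'⟩ : ∃ c' : ℕ, DecSh.mult k X L (cokernel j) = c' := ⟨_, (Int.toNat_of_nonneg g1).symm⟩
        have hi := ih c' (by omega) (cokernel j) (q ≫ cokernel.π j) inferInstance hQG hc'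
        have hcq : (c : ℚ) = (DecSh.mult k X L G : ℚ) + (c' : ℚ) := by
          have : (c : ℤ) = DecSh.mult k X L G + (c' : ℤ) := by omega
          exact_mod_cast this
        rw [hcq, mul_add] at hlt
        linarith
    obtain ⟨hK, hKm, hKe⟩ := hSa F Q q hq hF hQ
    have hcα : DecSh.mult k X L Q ≤ α := by
      have := mult_nonneg' (k := k) hL hdim hK
      omega
    have hcq : (1 : ℚ) ≤ (c : ℚ) := by exact_mod_cast hcpos
    have hαpos : (0 : ℚ) < (α : ℚ) := by
      have : (c : ℤ) ≤ α := hc ▸ hcα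
      have : (0 : ℤ) < α := by omega
      exact_mod_cast this
    by_cases hK0 : IsZero (kernel q)
    · haveI : Mono q := Preadditive.mono_of_kernel_zero (hK0.eq_of_src _ _)
      haveI : IsIso q := isIso_of_mono_of_epi q
      have h1 : (Curv2.euler k X Q : ℚ) = (e : ℚ) := by rw [← he, CurveRR.euler_eq_of_iso (asIso q)]
      have h2 : (c : ℚ) = (α : ℚ) := by
        have : (c : ℤ) = α := by rw [← hc, ← hα, mult_iso hL (asIso q)]
        exact_mod_cast this
      have h3 : ν₀ * (α : ℚ) ≤ (e : ℚ) :=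
        (mul_le_mul_of_nonneg_right (min_le_left _ _) hαpos.le).trans (le_of_eq (div_mul_cancel₀ _ hαpos.ne'))
      rw [h1, h2] at hlt
      linarith
    -- the one-step filtration by the kernel
    let P := Subobject.mk (kernel.ι q)
    let eP : (P : X.Modules) ≅ kernel q := Subobject.underlyingIso _
    have hP : P ≠ ⊤ := fun hh => by
      haveI := (Subobject.isIso_iff_mk_eq_top (kernel.ι q)).2 hh
      have hq0 : q = 0 := (cancel_epi (kernel.ι q)).1 ((kernel.condition q).trans comp_zero.symm)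
      have hz : IsZero Q := IsZero.of_epi_eq_zero q hq0
      have h1 := (StabLib.Sh.inv k hL).hp_zero hz hQ
      change StabLib.Sh.hp k L Q = 0 at h1
      rw [hp_eq hL hdim hQ, hc] at h1
      have h2 := congrArg (Polynomial.coeff · 1) h1
      simp only [Polynomial.coeff_add, Polynomial.coeff_C_mul_X, Polynomial.coeff_C, Polynomial.coeff_zero,
        one_ne_zero, if_true, if_false, zero_add] at h2
      push_cast at h2
      linarith
    have hP0 : ¬ IsZero (P : X.Modules) := fun hz => hK0 (hz.of_iso eP.symm)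
    let 𝓢 := DecSh.WFilt.single P hP hP0
    have hPc : Coh.IsCoh (P : X.Modules) := CohFinite.isCoh_of_iso eP.symm hK
    have h0 := hcond 𝓢 (fun _ => hPc)
    have hμ := abs_mu_le (k := k) hL hdim hp hF htf T 𝓢 fun _ => hPc
    let eQ : cokernel P.arrow ≅ Q :=
      cokernelIsoOfEq (Subobject.underlyingIso_hom_comp_eq_mk (kernel.ι q)).symm ≪≫ cokernelEpiComp _ _ ≪≫
        IsColimit.coconePointUniqueUpToIso (cokernelIsCokernel _)
          (Abelian.epiIsCokernelOfKernel (KernelFork.ofι (kernel.ι q) (kernel.condition q)) (kernelIsKernel q))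
    have e1 : DecSh.mult k X L (cokernel P.arrow) = c := by rw [mult_iso hL eQ, hc]
    have e2 : Module.finrank k (Coh.HH X (ShStab.twist X L (cokernel P.arrow) m) 0) =
        Module.finrank k (Coh.HH X (ShStab.twist X L Q m) 0) :=
      (CohFinite.hhEquiv k (PicGrp.tensorModIso eQ (Iso.refl _)) 0).finrank_eq
    have hh0 := hC Q ν₀ m hQ hcα hsub
    rw [hc] at hh0
    simp only [𝓢, DecSh.WFilt.single, Finset.univ_unique, Fin.default_eq_zero, Finset.sum_singleton, one_mul] at h0 hμ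
    rw [e1, e2, euler_linear hL hdim hF, hα, he] at h0
    rw [hα] at hμ
    push_cast at h0 hh0
    have hmq : δ * (a : ℚ) - (e : ℚ) / (α : ℚ) < (m : ℚ) := lt_of_lt_of_le hN₁ (by exact_mod_cast hm)
    have hδa : 0 ≤ δ * (a : ℚ) := mul_nonneg hδ.le (Nat.cast_nonneg a)
    have hν : ν₀ + (m : ℚ) + C < (e : ℚ) / (α : ℚ) + (m : ℚ) - δ * (a : ℚ) := by
      have := min_le_right ((e : ℚ) / (α : ℚ)) ((e : ℚ) / (α : ℚ) - δ * (a : ℚ) - C - 1)
      change ν₀ ≤ _ at this
      linarith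
    have hmax : max 0 (ν₀ + (m : ℚ) + C) < (e : ℚ) / (α : ℚ) + (m : ℚ) - δ * (a : ℚ) :=
      max_lt (by linarith) hν
    have hkey : (c : ℚ) * (α : ℚ) * ((e : ℚ) / (α : ℚ) + (m : ℚ)) - δ * ((a : ℚ) * (α : ℚ)) ≤
        (α : ℚ) * ((c : ℚ) * max 0 (ν₀ + (m : ℚ) + C)) := by
      have h4 := mul_le_mul_of_nonneg_left hh0 hαpos.le
      have h5 := mul_le_mul_of_nonneg_left (neg_le_of_abs_le hμ) hδ.le
      have h6 : (c : ℚ) * (α : ℚ) * ((e : ℚ) / (α : ℚ) + (m : ℚ)) =
          (c : ℚ) * ((e : ℚ) + (α : ℚ) * (m : ℚ)) := by field_simp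
      rw [h6]
      linarith
    have h7 := mul_lt_mul_of_pos_left hmax (mul_pos hαpos (show (0 : ℚ) < (c : ℚ) by linarith))
    have h8 : δ * ((a : ℚ) * (α : ℚ)) ≤ (α : ℚ) * (c : ℚ) * (δ * (a : ℚ)) := by
      have h9 := mul_le_mul_of_nonneg_left hcq (mul_nonneg hαpos.le hδa)
      linarith
    linarith
  -- conclusion
  intro G j hj hG h0
  haveI := hj
  obtain ⟨h1, h2⟩ := mult_mem (k := k) hL hdim hp hF htf j hG h0
  have hQG : Coh.IsCoh (cokernel j) := Groth.Agent.QC.isCoh_cokernel hG.1 hF j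
  have hS : (ShortComplex.mk j (cokernel.π j) (cokernel.condition j)).ShortExact :=
    { exact := ShortComplex.exact_cokernel j }
  have e1 : DecSh.mult k X L F = DecSh.mult k X L G + DecSh.mult k X L (cokernel j) :=
    mult_add (k := k) hL (S := ShortComplex.mk j (cokernel.π j) (cokernel.condition j)) hS hG hF hQG
  have e2 : Curv2.euler k X F = Curv2.euler k X G + Curv2.euler k X (cokernel j) :=
    CurveRR.euler_add (k := k) (S := ShortComplex.mk j (cokernel.π j) (cokernel.condition j)) hS hG hF hQG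
  obtain ⟨c, hc⟩ : ∃ c : ℕ, DecSh.mult k X L (cokernel j) = c :=
    ⟨_, (Int.toNat_of_nonneg (mult_nonneg' hL hdim hQG)).symm⟩
  have h3 := hquot c (cokernel j) (cokernel.π j) inferInstance hQG hc
  have q1 : (1 : ℚ) ≤ (DecSh.mult k X L G : ℚ) := by exact_mod_cast h1
  have hcα : (c : ℚ) ≤ |(α : ℚ)| := by
    have : (c : ℤ) ≤ α := by omega
    exact (show (c : ℚ) ≤ (α : ℚ) by exact_mod_cast this).trans (le_abs_self _)
  have h4 : -(ν₀ * (c : ℚ)) ≤ |ν₀| * |(α : ℚ)| := by
    have h5 : -(ν₀ * (c : ℚ)) ≤ |ν₀| * (c : ℚ) := by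
      rw [← neg_mul]
      exact mul_le_mul_of_nonneg_right (neg_le_abs ν₀) (Nat.cast_nonneg c)
    exact h5.trans (mul_le_mul_of_nonneg_left hcα (abs_nonneg _))
  have h6 : (e : ℚ) = (Curv2.euler k X G : ℚ) + (Curv2.euler k X (cokernel j) : ℚ) := by
    rw [← he]; exact_mod_cast e2
  have hB : 0 ≤ |(e : ℚ)| + |ν₀| * |(α : ℚ)| := by positivity
  refine le_trans ?_ (le_mul_of_one_le_right hB q1)
  linarith [le_abs_self (e : ℚ)]

/-- δ-semistability or the quotient sectional condition in a large degree bound the slopes of subsheaves. -/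
theorem exists_slope_of_ss_or_sectional (δ : ℚ) (hδ : 0 < δ) (α e : ℤ) (a : ℕ) :
    ∃ (N₁ : ℕ) (B : ℚ), ∀ (F : X.Modules), Coh.IsCoh F → TorSh.IsTorsionFree F →
      DecSh.mult k X L F = α → Curv2.euler k X F = e →
      ∀ (b : ℕ) (D : X.Modules) (T : DecSh.TF F a b D), (T.IsSemistable k L δ ∨ ∃ m : ℕ, N₁ ≤ m ∧
      (∀ 𝓕 : DecSh.WFilt F, (∀ i, Coh.IsCoh ((𝓕.piece i : Subobject F) : X.Modules)) →
        (∑ i, 𝓕.wt i * ((DecSh.mult k X L (cokernel (𝓕.piece i).arrow) : ℚ) *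
            (Curv2.euler k X (ShStab.twist X L F m) : ℚ) -
          (α : ℚ) * (Module.finrank k (Coh.HH X (ShStab.twist X L (cokernel (𝓕.piece i).arrow) m) 0) : ℚ))) +
          δ * T.mu k L 𝓕 ≤ 0)) →
      SlopeLE k X L F B := by
  obtain ⟨N₁, B, hB⟩ := exists_slope_of_sectional (k := k) hL hdim hp δ hδ α e a
  refine ⟨N₁, max B (|(e : ℚ) / (α : ℚ)| + δ * (a : ℚ)), fun F hF htf hα he b D T hT G j hj hG h0 => ?_⟩
  haveI := hj
  obtain ⟨h1, h2⟩ := mult_mem (k := k) hL hdim hp hF htf j hG h0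
  have q1 : (1 : ℚ) ≤ (DecSh.mult k X L G : ℚ) := by exact_mod_cast h1
  rcases hT with hS | ⟨m, hm, hc⟩
  swap
  · exact (hB F hF htf hα he b D T m hm hc G j hj hG h0).trans
      (mul_le_mul_of_nonneg_right (le_max_left _ _) (by linarith))
  refine le_trans ?_ (mul_le_mul_of_nonneg_right (le_max_right _ _) (by linarith))
  have q2 : (DecSh.mult k X L G : ℚ) ≤ (α : ℚ) := by rw [← hα]; exact_mod_cast h2
  have hαpos : (0 : ℚ) < (α : ℚ) := by linarith
  have hδa : 0 ≤ δ * (a : ℚ) := mul_nonneg hδ.le (Nat.cast_nonneg a)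
  have h3 : (e : ℚ) ≤ |(e : ℚ) / (α : ℚ)| * (α : ℚ) := by
    have := mul_le_mul_of_nonneg_right (le_abs_self ((e : ℚ) / (α : ℚ))) hαpos.le
    rwa [div_mul_cancel₀ _ hαpos.ne'] at this
  by_cases hi : IsIso j
  · rw [CurveRR.euler_eq_of_iso (asIso j), he, mult_iso hL (asIso j), hα]
    nlinarith
  · have h := linear_le (k := k) hL hdim hp hF htf T hδ hS j hG h0 hi
    simp only [CurveRR.euler_eq_of_iso (Subobject.underlyingIso j)] at h
    rw [hα, he] at h
    refine le_of_mul_le_mul_left ?_ hαpos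
    have h4 := mul_le_mul_of_nonneg_left h3 (show (0 : ℚ) ≤ (DecSh.mult k X L G : ℚ) by linarith)
    have h5 := mul_le_mul_of_nonneg_left q1 (mul_nonneg hδa hαpos.le)
    nlinarith

end Groth.Agent.DecShLib

end
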