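/-
Sectional semistability in large degrees.
-/
import Groth.Agent.DecShLib.Sectional

set_option autoImplicit false
set_option linter.unusedSectionVars false
set_option linter.style.haveILetI false
set_option backward.isDefEq.respectTransparency false
set_option backward.isDefEq.respectTransparency.types false
set_option maxHeartbeats 1000000

universe u

open CategoryTheory CategoryTheory.Limits AlgebraicGeometry
open Groth.Agent
open scoped Polynomial

noncomputable section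

namespace Groth.Agent.DecShLib

variable {k : Type u} [Field k] [Infinite k] {X : Scheme.{u}} [X.Over (Spec (CommRingCat.of k))]
  [IsProper (X ↘ Spec (CommRingCat.of k))] {L : X.Modules} (hL : CohB1.IsAmple L)
  (hdim : topologicalKrullDim X ≤ 1)

include hL hdim

/-- Sections of twists of subsheaves: either the subsheaf is as good as saturated by them or few sections. -/
theorem exists_h0_split (α : ℤ) :
    ∃ (d : ℕ) (C : ℚ), 0 < d ∧ ∀ (P : X.Modules) (B : ℚ) (m : ℕ), Coh.IsCoh P → DecSh.mult k X L P ≤ α →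
      0 ≤ B + (m : ℚ) + C → SlopeLE k X L P B →
      ((Module.finrank k (Coh.HH X (ShStab.twist X L P m) 0) : ℚ) ≤
          ((DecSh.mult k X L P : ℚ) - 1 / (d : ℚ)) * (B + (m : ℚ) + C) ∨
        (Module.finrank k (Coh.HH X (ShStab.twist X L P m) 0) : ℚ) ≤
          (Curv2.euler k X P : ℚ) + (DecSh.mult k X L P : ℚ) * (m : ℚ) + (DecSh.mult k X L P : ℚ) * C) := by
  haveI := CurveRR.isNoetherian_of_proper k X
  obtain ⟨n, d, r, hd, hr, hrc, ⟨eL⟩⟩ := AmpleEmb.exists_closedImmersion_projSpace (X ↘ Spec (CommRingCat.of k)) hL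
  haveI := hrc
  refine ⟨d, (d : ℚ) * ((α : ℚ) * (d : ℚ) + 1), hd, fun P B m hP hα hBm hB => ?_⟩
  obtain ⟨hM, heul, hb⟩ := push_data hL hdim hd r hr eL m hP hB
  let A := (DecSh.mult k X L P).toNat
  have hA : (A : ℚ) = (DecSh.mult k X L P : ℚ) := by
    exact_mod_cast Int.toNat_of_nonneg (mult_nonneg' hL hdim hP)
  obtain ⟨a, q, haA, hq, hqe, hh⟩ := BddSlope.h0_gen_bound hM (A * d)
    ((Curv2.euler k X P : ℚ) + (DecSh.mult k X L P : ℚ) * (m : ℚ)) ((B + m) / (d : ℚ))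
    (fun t => by rw [heul t]; push_cast; rw [hA]) hb
  have he : CurveRR.h k ((Scheme.Modules.pushforward r).obj (ShStab.twist X L P m)) 0 =
      Module.finrank k (Coh.HH X (ShStab.twist X L P m) 0) := Nakai.h0_pushforward k r hr _
  rw [he] at hh
  have hdq : (0 : ℚ) < (d : ℚ) := by exact_mod_cast hd
  have hαq : (DecSh.mult k X L P : ℚ) ≤ (α : ℚ) := by exact_mod_cast hα
  have hAd : ((A * d : ℕ) : ℚ) = (DecSh.mult k X L P : ℚ) * (d : ℚ) := by push_cast; rw [hA]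
  have hae : (a : ℚ) + 1 ≤ (α : ℚ) * (d : ℚ) + 1 := by
    have : (a : ℚ) ≤ ((A * d : ℕ) : ℚ) := by exact_mod_cast haA
    rw [hAd] at this
    have := mul_le_mul_of_nonneg_right hαq hdq.le
    linarith
  rcases eq_or_lt_of_le haA with haeq | halt
  · refine Or.inr (hh.trans ?_)
    have h1 : (a : ℚ) * ((a : ℚ) + 1) ≤ (a : ℚ) * ((α : ℚ) * (d : ℚ) + 1) :=
      mul_le_mul_of_nonneg_left hae (Nat.cast_nonneg a)
    have h2 := hqe haeq
    have h3 : (a : ℚ) = (DecSh.mult k X L P : ℚ) * (d : ℚ) := by rw [← hAd, haeq]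
    rw [h3] at h1
    rw [h3]
    linarith
  · refine Or.inl (hh.trans ?_)
    have h3 : (a : ℚ) + 1 ≤ (DecSh.mult k X L P : ℚ) * (d : ℚ) := by
      rw [← hAd]; exact_mod_cast halt
    have h4 : (a : ℚ) * ((B + m) / (d : ℚ) + ((α : ℚ) * (d : ℚ) + 1)) ≤
        ((DecSh.mult k X L P : ℚ) * (d : ℚ) - 1) * ((B + m) / (d : ℚ) + ((α : ℚ) * (d : ℚ) + 1)) := by
      refine mul_le_mul_of_nonneg_right (by linarith) ?_
      have h5 : (B + m) / (d : ℚ) + ((α : ℚ) * (d : ℚ) + 1) =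
          (B + (m : ℚ) + (d : ℚ) * ((α : ℚ) * (d : ℚ) + 1)) / (d : ℚ) := by field_simp
      rw [h5]
      exact div_nonneg hBm hdq.le
    have h6 : ((DecSh.mult k X L P : ℚ) * (d : ℚ) - 1) * ((B + m) / (d : ℚ) + ((α : ℚ) * (d : ℚ) + 1)) =
        ((DecSh.mult k X L P : ℚ) - 1 / (d : ℚ)) * (B + (m : ℚ) + (d : ℚ) * ((α : ℚ) * (d : ℚ) + 1)) := by
      field_simp
    rw [← h6]
    refine le_trans ?_ h4
    have h7 : (a : ℚ) * ((a : ℚ) + 1) ≤ (a : ℚ) * ((α : ℚ) * (d : ℚ) + 1) :=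
      mul_le_mul_of_nonneg_left hae (Nat.cast_nonneg a)
    linarith

variable [IsReduced X] (hp : ∀ x : X, ¬ IsOpen ({x} : Set X))

include hp

/-- In large degrees a subsheaf is acyclic or has very few sections. -/
theorem exists_split (α e : ℤ) (B K : ℚ) :
    ∃ N₀ : ℕ, ∀ m : ℕ, N₀ ≤ m → ∀ F : X.Modules, Coh.IsCoh F → TorSh.IsTorsionFree F →
      DecSh.mult k X L F = α → Curv2.euler k X F = e → SlopeLE k X L F B →
      ∀ (P : X.Modules) (j : P ⟶ F), Mono j → Coh.IsCoh P → ¬ IsZero P →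
        Subsingleton (Coh.HH X (ShStab.twist X L P m) 1) ∨
        (α : ℚ) * (Module.finrank k (Coh.HH X (ShStab.twist X L P m) 0) : ℚ) -
          (DecSh.mult k X L P : ℚ) * (Curv2.euler k X (ShStab.twist X L F m) : ℚ) + K < 0 := by
  haveI := CurveRR.isNoetherian_of_proper k X
  obtain ⟨d, C, hd, hsplit⟩ := exists_h0_split (k := k) hL hdim α
  let D₁ : ℚ := |(α : ℚ)| * (|(α : ℚ)| * |C|) + |(α : ℚ)| * |(e : ℚ)| + |K|
  obtain ⟨M, hM⟩ := exists_nat_ge (D₁ + |B| * |(α : ℚ)| + 1)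
  choose N hN using fun p : ℤ × ℤ => exists_vanish (k := k) hL hdim p.1 p.2 B
  let s : Finset (ℤ × ℤ) := Finset.Icc (1 : ℤ) |α| ×ˢ Finset.Icc (-(M : ℤ)) (M : ℤ)
  obtain ⟨N₂, hN₂⟩ : ∃ N₂ : ℕ,
      (d : ℚ) * (|(α : ℚ)| * (|B| + |C|) + D₁ + 1) + |B| + |C| < (N₂ : ℚ) := exists_nat_gt _
  refine ⟨max (s.sup N) N₂, fun m hm F hF htf hα he hB P j hj hP hP0 => ?_⟩
  haveI := hj
  obtain ⟨h1, h2⟩ := mult_mem (k := k) hL hdim hp hF htf j hP hP0
  have hBP : SlopeLE k X L P B := fun G i hi hG h0 => by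
    haveI := hi
    exact hB G (i ≫ j) (mono_comp _ _) hG h0
  have hαz : DecSh.mult k X L P ≤ α := hα ▸ h2
  have q1 : (1 : ℚ) ≤ (DecSh.mult k X L P : ℚ) := by exact_mod_cast h1
  have q2 : (DecSh.mult k X L P : ℚ) ≤ (α : ℚ) := by exact_mod_cast hαz
  have hαabs : |(α : ℚ)| = (α : ℚ) := abs_of_nonneg (by linarith)
  have hχB := hB P j hj hP hP0
  by_cases hbdd : -(M : ℤ) ≤ Curv2.euler k X P
  · left
    have hup : Curv2.euler k X P ≤ (M : ℤ) := by
      have h3 : (Curv2.euler k X P : ℚ) ≤ (M : ℚ) := by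
        have h4 : B * (DecSh.mult k X L P : ℚ) ≤ |B| * |(α : ℚ)| :=
          (mul_le_mul_of_nonneg_right (le_abs_self B) (by linarith)).trans
            (mul_le_mul_of_nonneg_left (hαabs.symm ▸ q2) (abs_nonneg B))
        have h5 : 0 ≤ D₁ := by positivity
        linarith
      exact_mod_cast h3
    have hmem : (DecSh.mult k X L P, Curv2.euler k X P) ∈ s := by
      simp only [s, Finset.mem_product, Finset.mem_Icc]
      exact ⟨⟨h1, hαz.trans (le_abs_self α)⟩, hbdd, hup⟩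
    exact (hN _ m ((Finset.le_sup hmem).trans ((le_max_left _ _).trans hm)) P hP rfl rfl hBP).1 1 le_rfl
  right
  push Not at hbdd
  have hbdd' : (Curv2.euler k X P : ℚ) + 1 ≤ -(M : ℚ) := by exact_mod_cast hbdd
  have hmN : (N₂ : ℚ) ≤ (m : ℚ) := by exact_mod_cast (le_max_right (s.sup N) N₂).trans hm
  have hdq : (1 : ℚ) ≤ (d : ℚ) := by exact_mod_cast hd
  have hBC : 0 ≤ |B| + |C| := by positivity
  have hD : 0 ≤ D₁ := by positivity
  have hbig : (d : ℚ) * (|(α : ℚ)| * (|B| + |C|) + D₁ + 1) + |B| + |C| < (m : ℚ) := lt_of_lt_of_le hN₂ hmN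
  have hpos : 0 ≤ (d : ℚ) * (|(α : ℚ)| * (|B| + |C|) + D₁ + 1) := by positivity
  have hBm : 0 ≤ B + (m : ℚ) + C := by linarith [neg_abs_le B, neg_abs_le C]
  rw [euler_linear hL hdim hF, hα, he]
  have he' : -((DecSh.mult k X L P : ℚ) * (e : ℚ)) ≤ |(α : ℚ)| * |(e : ℚ)| := by
    rw [← mul_neg]
    exact (mul_le_mul_of_nonneg_left (neg_le_abs _) (by linarith)).trans
      (mul_le_mul_of_nonneg_right (hαabs.symm ▸ q2) (abs_nonneg _))
  have hK := le_abs_self K
  have hαpos : (1 : ℚ) ≤ (α : ℚ) := by linarith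
  rcases hsplit P B m hP hαz hBm hBP with h | h
  · have h3 := mul_le_mul_of_nonneg_left h (show (0 : ℚ) ≤ (α : ℚ) by linarith)
    have h4 : B + C ≤ |B| + |C| := add_le_add (le_abs_self B) (le_abs_self C)
    have h5 : (DecSh.mult k X L P : ℚ) * (B + C) ≤ |(α : ℚ)| * (|B| + |C|) :=
      (mul_le_mul_of_nonneg_left h4 (by linarith)).trans (mul_le_mul_of_nonneg_right (hαabs.symm ▸ q2) hBC)
    have h6 := mul_le_mul_of_nonneg_left h5 (show (0 : ℚ) ≤ (α : ℚ) by linarith)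
    -- the deficit
    have h7 : |(α : ℚ)| * (|B| + |C|) + D₁ + 1 < (B + (m : ℚ) + C) * (1 / (d : ℚ)) := by
      rw [mul_one_div, lt_div_iff₀ (by linarith)]
      linarith [neg_abs_le B, neg_abs_le C]
    have h8 := mul_lt_mul_of_pos_left h7 (show (0 : ℚ) < (α : ℚ) by linarith)
    have h9 : |(α : ℚ)| * |(e : ℚ)| + |K| ≤ D₁ := by
      have : 0 ≤ |(α : ℚ)| * (|(α : ℚ)| * |C|) := by positivity
      linarith
    have h10 : D₁ + 1 ≤ (α : ℚ) * (D₁ + 1) := le_mul_of_one_le_left (by linarith) hαpos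
    linarith
  · have h3 := mul_le_mul_of_nonneg_left h (show (0 : ℚ) ≤ (α : ℚ) by linarith)
    have h5 : (DecSh.mult k X L P : ℚ) * C ≤ |(α : ℚ)| * |C| :=
      (mul_le_mul_of_nonneg_left (le_abs_self C) (by linarith)).trans
        (mul_le_mul_of_nonneg_right (hαabs.symm ▸ q2) (abs_nonneg C))
    have h6 := mul_le_mul_of_nonneg_left h5 (show (0 : ℚ) ≤ (α : ℚ) by linarith)
    have hBa : 0 ≤ |B| * |(α : ℚ)| := by positivity
    have h7 : (α : ℚ) * ((Curv2.euler k X P : ℚ) + 1) ≤ (α : ℚ) * (-(M : ℚ)) :=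
      mul_le_mul_of_nonneg_left hbdd' (by linarith)
    have h8 : (α : ℚ) * (D₁ + 1) ≤ (α : ℚ) * (M : ℚ) := mul_le_mul_of_nonneg_left (by linarith) (by linarith)
    have h10 : D₁ + 1 ≤ (α : ℚ) * (D₁ + 1) := le_mul_of_one_le_left (by linarith) hαpos
    rw [hαabs] at h6
    have hD' : D₁ = (α : ℚ) * ((α : ℚ) * |C|) + (α : ℚ) * |(e : ℚ)| + |K| := by simp only [D₁, hαabs]
    rw [hαabs] at he'
    linarith

end Groth.Agent.DecShLib

end
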