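/-
Comparison of sectional and linear semistability along weighted filtrations.
-/
import Groth.Agent.DecShLib.Split

set_option autoImplicit false
set_option linter.unusedSectionVars false
set_option linter.style.haveILetI false
set_option backward.isDefEq.respectTransparency false
set_option backward.isDefEq.respectTransparency.types false

universe u

open CategoryTheory CategoryTheory.Limits AlgebraicGeometry
open Groth.Agent

noncomputable section

namespace Groth.Agent.DecShLib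

variable {k : Type u} [Field k] {X : Scheme.{u}} [X.Over (Spec (CommRingCat.of k))]
  [IsProper (X ↘ Spec (CommRingCat.of k))] {L : X.Modules} (hL : CohB1.IsAmple L)
  (hdim : topologicalKrullDim X ≤ 1)

include hdim

/-- Sections are at least the Euler characteristic. -/
theorem euler_le_h0 (F : X.Modules) :
    (Curv2.euler k X F : ℚ) ≤ (Module.finrank k (Coh.HH X F 0) : ℚ) := by
  have h : Curv2.euler k X F ≤ (Module.finrank k (Coh.HH X F 0) : ℤ) := by
    rw [CurveRR.euler_eq (k := k) hdim F]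
    simp only [CurveRR.h]
    omega
  exact_mod_cast h

/-- Without first cohomology the sections compute the Euler characteristic. -/
theorem h0_eq_euler {F : X.Modules} (h : Subsingleton (Coh.HH X F 1)) :
    (Module.finrank k (Coh.HH X F 0) : ℤ) = Curv2.euler k X F := by
  rw [CurveRR.euler_eq (k := k) hdim F, CurveRR.h_eq_zero (k := k) h]
  simp

include hL

include k in
/-- Acyclic twists pass to quotients. -/
theorem subsingleton_h1_quot {E P : X.Modules} (ι : P ⟶ E) [Mono ι] (m : ℕ)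
    (h : Subsingleton (Coh.HH X (ShStab.twist X L E m) 1)) :
    Subsingleton (Coh.HH X (ShStab.twist X L (cokernel ι) m) 1) := by
  have hS : (ShortComplex.mk ι (cokernel.π ι) (cokernel.condition ι)).ShortExact :=
    { exact := ShortComplex.exact_cokernel ι }
  have h1 := CurveRR.surjective_h1 (k := k) hdim
    (CohFinite.shortExact_tmap (TMul.isInvertible_tensorPow hL.1 m) hS)
  exact @Function.Surjective.subsingleton _ _ _ h h1

variable [IsReduced X] (hp : ∀ x : X, ¬ IsOpen ({x} : Set X))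

omit hdim in
/-- Invariants of a quotient by a subobject. -/
theorem cokernel_data {E P : X.Modules} (ι : P ⟶ E) [Mono ι] (hP : Coh.IsCoh P) (hE : Coh.IsCoh E) :
    Coh.IsCoh (cokernel ι) ∧
      DecSh.mult k X L E = DecSh.mult k X L P + DecSh.mult k X L (cokernel ι) ∧
      Curv2.euler k X E = Curv2.euler k X P + Curv2.euler k X (cokernel ι) := by
  haveI := CurveRR.isNoetherian_of_proper k X
  have hQ : Coh.IsCoh (cokernel ι) := QC.isCoh_cokernel hP.1 hE ι
  have hS : (ShortComplex.mk ι (cokernel.π ι) (cokernel.condition ι)).ShortExact :=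
    { exact := ShortComplex.exact_cokernel ι }
  have h1 := mult_add (k := k) hL (S := ShortComplex.mk ι (cokernel.π ι) (cokernel.condition ι)) hS hP hE hQ
  have h2 := CurveRR.euler_add (k := k) (S := ShortComplex.mk ι (cokernel.π ι) (cokernel.condition ι)) hS hP hE hQ
  exact ⟨hQ, h1, h2⟩

variable {E : X.Modules} (hE : Coh.IsCoh E) (htf : TorSh.IsTorsionFree E)
  {D : X.Modules} {a b : ℕ} (T : DecSh.TF E a b D) {δ : ℚ}

include hp hE htf

/-- Steps which are either linear or very negative keep the semistability inequality. -/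
theorem sectional_core (hδ : 0 < δ) (lin : Subobject E → ℚ)
    (hlin : ∀ 𝓕 : DecSh.WFilt E, (∀ i, Coh.IsCoh ((𝓕.piece i : Subobject E) : X.Modules)) →
      (∑ i, 𝓕.wt i * lin (𝓕.piece i)) + δ * T.mu k L 𝓕 ≤ 0)
    (𝓕 : DecSh.WFilt E) (hcoh : ∀ i, Coh.IsCoh ((𝓕.piece i : Subobject E) : X.Modules))
    (f : Fin 𝓕.t → ℚ)
    (hf : ∀ i, f i = lin (𝓕.piece i) ∨ f i + δ * (a : ℚ) * ((DecSh.mult k X L E : ℚ) - 1) < 0) :
    (∑ i, 𝓕.wt i * f i) + δ * T.mu k L 𝓕 ≤ 0 ∧
      ((∑ i, 𝓕.wt i * f i) + δ * T.mu k L 𝓕 = 0 → ∀ i, f i = lin (𝓕.piece i)) := by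
  classical
  let S : Finset (Fin 𝓕.t) := Finset.univ.filter fun i => f i = lin (𝓕.piece i)
  suffices h : (∑ i, 𝓕.wt i * f i) + δ * T.mu k L 𝓕 ≤ 0 ∧
      (S ≠ Finset.univ → (∑ i, 𝓕.wt i * f i) + δ * T.mu k L 𝓕 < 0) by
    refine ⟨h.1, fun h0 i => ?_⟩
    by_contra hi
    exact (h.2 fun hu => hi (Finset.mem_filter.1 (hu ▸ Finset.mem_univ i : i ∈ S)).2).ne h0
  set c : ℚ := (a : ℚ) * ((DecSh.mult k X L E : ℚ) - 1) with hc
  have hbad : ∀ i ∈ Finset.univ \ S, 𝓕.wt i * f i < 𝓕.wt i * (-(δ * c)) := fun i hi => by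
    refine mul_lt_mul_of_pos_left ?_ (𝓕.wt_pos i)
    rcases hf i with h | h
    · exact absurd (Finset.mem_filter.2 ⟨Finset.mem_univ i, h⟩) (Finset.mem_sdiff.1 hi).2
    · rw [hc, ← mul_assoc]; linarith
  have hsplit : ∑ i, 𝓕.wt i * f i = (∑ i ∈ Finset.univ \ S, 𝓕.wt i * f i) + ∑ i ∈ S, 𝓕.wt i * lin (𝓕.piece i) := by
    rw [← Finset.sum_sdiff (Finset.subset_univ S)]
    exact congrArg₂ (· + ·) rfl (Finset.sum_congr rfl fun i hi => by rw [(Finset.mem_filter.1 hi).2])
  by_cases hu : S = Finset.univ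
  · refine ⟨?_, fun h => absurd hu h⟩
    rw [hsplit, hu, Finset.sdiff_self, Finset.sum_empty, zero_add]
    exact hlin 𝓕 hcoh
  suffices h : (∑ i, 𝓕.wt i * f i) + δ * T.mu k L 𝓕 < 0 from ⟨h.le, fun _ => h⟩
  have hne : (Finset.univ \ S).Nonempty := Finset.sdiff_nonempty.2 fun h => hu (Finset.univ_subset_iff.1 h)
  have hlt := Finset.sum_lt_sum_of_nonempty hne hbad
  rw [← Finset.sum_mul, mul_neg, ← mul_assoc] at hlt
  rw [Finset.sum_sdiff_eq_sub (f := 𝓕.wt) (Finset.subset_univ S)] at hlt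
  rcases S.eq_empty_or_nonempty with hS | hS
  · have h := le_of_abs_le (abs_mu_le (k := k) hL hdim hp hE htf T 𝓕 hcoh)
    rw [hS, Finset.sum_empty, sub_zero] at hlt
    rw [hsplit, hS, Finset.sum_empty, add_zero]
    have h2 := mul_le_mul_of_nonneg_left h hδ.le
    rw [mul_assoc _ (a : ℚ), ← hc] at h2
    linarith
  let e := S.orderEmbOfFin rfl
  let 𝓕₁ : DecSh.WFilt E :=
    { t := S.card
      t_pos := Finset.card_pos.2 hS
      piece := fun j => 𝓕.piece (e j)
      wt := fun j => 𝓕.wt (e j)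
      piece_strictMono := fun x y hxy => 𝓕.piece_strictMono (e.strictMono hxy)
      piece_ne_top := fun j => 𝓕.piece_ne_top _
      piece_nonzero := fun j => 𝓕.piece_nonzero _
      wt_pos := fun j => 𝓕.wt_pos _ }
  have hmap : Finset.univ.map e.toEmbedding = S := by simp [e]
  have hs1 : ∑ j, 𝓕₁.wt j * lin (𝓕₁.piece j) = ∑ i ∈ S, 𝓕.wt i * lin (𝓕.piece i) := by
    conv_rhs => rw [← hmap, Finset.sum_map]
    rfl
  have hs2 : ∑ j, 𝓕₁.wt j = ∑ i ∈ S, 𝓕.wt i := by
    conv_rhs => rw [← hmap, Finset.sum_map]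
    rfl
  have h1 := hlin 𝓕₁ fun j => hcoh (e j)
  have h2 := mu_le_sub (k := k) hL hdim hp hE htf T 𝓕 hcoh 𝓕₁ e (fun _ => rfl) (fun _ => rfl)
  rw [hs1] at h1
  rw [hs2, mul_assoc _ (a : ℚ), ← hc] at h2
  have h3 := mul_le_mul_of_nonneg_left h2 hδ.le
  rw [hsplit]
  linarith

end Groth.Agent.DecShLib

end
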