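/-
Slope bounds for parabolic semistable tensor fields on smooth curves.
-/
import Groth.Agent.DecShLib.SectCore
import Groth.Agent.SmLocalST.SmoothField
import Groth.Agent.S0558
import Groth.Agent.LocFree.SemiLocal
import Groth.Agent.BivarOps.P1Inter

set_option autoImplicit false
set_option linter.unusedSectionVars false
set_option linter.style.haveILetI false
set_option backward.isDefEq.respectTransparency false
set_option backward.isDefEq.respectTransparency.types false

universe u

open CategoryTheory CategoryTheory.Limits AlgebraicGeometry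
open Groth.Agent

noncomputable section

namespace Groth.Agent.DecShLib

variable {k : Type u} [Field k] [IsAlgClosed k] {Y : Scheme.{u}} [Y.Over (Spec (CommRingCat.of k))]
  [IsProper (Y ↘ Spec (CommRingCat.of k))]

include k in
/-- A smooth scheme over a field is reduced. -/
theorem isReduced_of_smooth [Smooth (Y ↘ Spec (CommRingCat.of k))] : AlgebraicGeometry.IsReduced Y := by
  haveI : ∀ y : Y, _root_.IsReduced (Y.presheaf.stalk y) := fun y => by
    haveI := SmLocalST.isRegularLocalRing_stalk_of_smooth_field (Y ↘ Spec (CommRingCat.of k)) y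
    haveI := Groth.Agent.S0558.result (Y.presheaf.stalk y)
    infer_instance
  exact AlgebraicGeometry.isReduced_of_isReduced_stalk Y

variable [AlgebraicGeometry.IsReduced Y] {L : Y.Modules} (hL : CohB1.IsAmple L)
  (hdim : topologicalKrullDim Y ≤ 1) (hp : ∀ y : Y, ¬ IsOpen ({y} : Set Y))

include hL hdim hp

/-- Parabolic semistable tensor fields of fixed rank and degree have fixed invariants and bounded slopes. -/
theorem par_data {ν : ℕ} (I : Fin ν → Y.IdealSheafData) (κ : Fin ν → ℚ) (hκ : ∀ i, 0 < κ i ∧ κ i < 1)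
    (δ : ℚ) (hδ : 0 < δ) (r a : ℕ) (d : ℤ) :
    ∃ (α e : ℤ) (B : ℚ), ∀ E : Y.Modules, FlatMod.IsFinLocFreeOfRank r E → Curv2.deg k Y E r = d →
      Coh.IsCoh E ∧ TorSh.IsTorsionFree E ∧ DecSh.mult k Y L E = α ∧ Curv2.euler k Y E = e ∧
      (∀ (G : Y.Modules) (j : G ⟶ E), Mono j → ¬ IsZero G → 0 < r) ∧
      ∀ (K : ∀ i, Submodule k (ParSh.fibD Y (I i) E)),
        (∀ i, Module.finrank k (ParSh.fibD Y (I i) E ⧸ K i) = r) →
        ∀ (b : ℕ) (D : Y.Modules) (T : DecSh.TF E a b D), T.IsParSemistable k I K κ L δ →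
          SlopeLE k Y L E B := by
  haveI := CurveRR.isNoetherian_of_proper k Y
  have hbasis : ∀ {M : Y.Modules}, FlatMod.IsFinLocFreeOfRank r M → ∀ y : Y,
      Nonempty (Module.Basis (ULift.{u} (Fin r)) (Y.presheaf.stalk y) (M.presheaf.stalk y)) := fun {M} hM y => by
    obtain ⟨U, hy, ⟨e⟩⟩ := hM y
    exact LocFree.exists_basis_stalk e (CurveRR.isCoh_of_rank hM).1 hy
  let α := DecSh.mult k Y L (FlatMod.freeMod Y r)
  let e := d + r * Curv2.euler k Y (Coh.structureModule Y)
  refine ⟨α, e, |(e : ℚ) / (α : ℚ)| + ((a : ℚ) * δ + (r : ℚ) * (ν : ℚ)), fun E hE hdeg => ?_⟩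
  have hEc := CurveRR.isCoh_of_rank hE
  have htf : TorSh.IsTorsionFree E := fun y => by
    haveI := LocFree.free_stalk_of_isFinLocFree (fun z => let ⟨U, hU⟩ := hE z; ⟨U, r, hU⟩) y
    infer_instance
  have hfree : FlatMod.IsFinLocFreeOfRank r (FlatMod.freeMod Y r) := BivarOps.isFinLocFreeOfRank_free r
  have hα : DecSh.mult k Y L E = α := by
    haveI := (TopologicalSpace.NoetherianSpace.finite_irreducibleComponents (α := Y)).fintype
    show _ = DecSh.mult k Y L (FlatMod.freeMod Y r)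
    rw [DecShLib.mult_eq hL hdim hEc, DecShLib.mult_eq hL hdim (CurveRR.isCoh_of_rank hfree)]
    refine Finset.sum_congr rfl fun Z _ => ?_
    have hlen : CurveRR.Multi.lenAt E Z.2.1.genericPoint =
        CurveRR.Multi.lenAt (FlatMod.freeMod Y r) Z.2.1.genericPoint := by
      obtain ⟨b₁⟩ := hbasis hE Z.2.1.genericPoint
      obtain ⟨b₂⟩ := hbasis hfree Z.2.1.genericPoint
      simp only [CurveRR.Multi.lenAt]
      rw [(b₁.equiv b₂ (Equiv.refl _)).length_eq]
    rw [hlen]
  have he : Curv2.euler k Y E = e := by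
    rw [Curv2.deg] at hdeg
    show _ = d + r * Curv2.euler k Y (Coh.structureModule Y)
    linarith
  have hrk : ∀ (G : Y.Modules) (j : G ⟶ E), Mono j → ¬ IsZero G → 0 < r := fun G j hj h0 => by
    haveI := hj
    rcases Nat.eq_zero_or_pos r with hr0 | hr
    · refine absurd ?_ h0
      have hEz : IsZero E := KFlat.isZero_of_stalks E fun y => by
        obtain ⟨b⟩ := hbasis hE y
        subst hr0
        exact @ModuleCat.isZero_of_subsingleton _ _ _ b.repr.toEquiv.subsingleton
      exact IsZero.of_mono j hEz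
    · exact hr
  refine ⟨hEc, htf, hα, he, hrk, fun K hK b D T hT G j hj hG h0 => ?_⟩
  haveI := hj
  obtain ⟨h1, h2⟩ := mult_mem (k := k) hL hdim hp hEc htf j hG h0
  have q1 : (1 : ℚ) ≤ (DecSh.mult k Y L G : ℚ) := by exact_mod_cast h1
  have hr : 0 < r := hrk G j hj h0
  have hc0 : 0 ≤ (a : ℚ) * δ + (r : ℚ) * (ν : ℚ) := by positivity
  have hx : (e : ℚ) / (α : ℚ) ≤ |(e : ℚ) / (α : ℚ)| := le_abs_self _
  by_cases hi : IsIso j
  · rw [CurveRR.euler_eq_of_iso (asIso j), he, DecShLib.mult_iso hL (asIso j), hα]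
    have hαpos : (0 : ℚ) < (α : ℚ) := by
      rw [DecShLib.mult_iso hL (asIso j), hα] at q1
      linarith
    have h3 := mul_le_mul_of_nonneg_right hx hαpos.le
    rw [div_mul_cancel₀ _ hαpos.ne'] at h3
    nlinarith [mul_nonneg hc0 hαpos.le]
  · have h := slope_le_par (k := k) hL hdim hp hEc htf hr I K hK κ hκ T hδ hT j hG h0 hi
    rw [hα, he, div_le_iff₀ (by linarith)] at h
    refine h.trans ?_
    refine mul_le_mul_of_nonneg_right ?_ (by linarith)
    linarith

omit [IsAlgClosed k] [AlgebraicGeometry.IsReduced Y] hL hdim hp in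
/-- The parabolic correction is bounded. -/
theorem parChi_mem {ν r : ℕ} (I : Fin ν → Y.IdealSheafData) {E : Y.Modules}
    (K : ∀ i, Submodule k (ParSh.fibD Y (I i) E))
    (hK : ∀ i, Module.finrank k (ParSh.fibD Y (I i) E ⧸ K i) = r) (hr : 0 < r)
    (κ : Fin ν → ℚ) (hκ : ∀ i, 0 < κ i ∧ κ i < 1) {G : Y.Modules} (j : G ⟶ E) :
    0 ≤ (Curv2.euler k Y G : ℚ) - DecSh.parChi k I K κ j ∧
      (Curv2.euler k Y G : ℚ) - DecSh.parChi k I K κ j ≤ (r : ℚ) * (ν : ℚ) := by
  rw [DecSh.parChi, sub_sub_cancel]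
  refine ⟨Finset.sum_nonneg fun i _ => mul_nonneg (hκ i).1.le (Nat.cast_nonneg _), ?_⟩
  refine (Finset.sum_le_card_nsmul _ _ (r : ℚ) fun i _ => ?_).trans (le_of_eq (by simp [mul_comm]))
  haveI : Module.Finite k (ParSh.fibD Y (I i) E ⧸ K i) := Module.finite_of_finrank_pos (by rw [hK i]; exact hr)
  have hle : Module.finrank k ((LinearMap.range (ParSh.fibDMap k Y (I i) j)).map (K i).mkQ) ≤ r :=
    (Submodule.finrank_le _).trans (hK i).le
  calc κ i * (Module.finrank k ((LinearMap.range (ParSh.fibDMap k Y (I i) j)).map (K i).mkQ) : ℚ)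
      ≤ 1 * (r : ℚ) := mul_le_mul (hκ i).2.le (by exact_mod_cast hle) (Nat.cast_nonneg _) zero_le_one
    _ = r := one_mul _

end Groth.Agent.DecShLib

end
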